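import Cfsg.Agent.MultPSL.Rels
import Cfsg.Agent.SchurTheory.Basic

/-!
# Lifting root elements to a central extension, at least three indices

Outside `(n, q) = (3, 2), (3, 4), (4, 2)` the Steinberg relations lift to every perfect central
extension.
-/

set_option autoImplicit false
set_option linter.unusedSectionVars false
set_option linter.style.haveILetI false

namespace CfsgLib.MultPSL

open scoped commutatorElement

theorem comm_mul_right {E : Type*} [Group E] (u v w : E) :
    ⁅u, v * w⁆ = ⁅u, v⁆ * (v * ⁅u, w⁆ * v⁻¹) := by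
  simp only [commutatorElement_def]
  group

theorem comm_mul_left {E : Type*} [Group E] (u v w : E) :
    ⁅u * v, w⁆ = u * ⁅v, w⁆ * u⁻¹ * ⁅u, w⁆ := by
  simp only [commutatorElement_def]
  group

/-- A finite field has an element which is not an `m`th root of unity. -/
theorem exists_pow_ne_one {F : Type*} [Field F] [Fintype F] {m : ℕ}
    (h : ¬ (Fintype.card F - 1) ∣ m) : ∃ c : F, c ≠ 0 ∧ c ^ m ≠ 1 := by
  obtain ⟨ω, hω⟩ := IsCyclic.exists_ofOrder_eq_natCard (α := Fˣ)
  rw [Nat.card_units, Nat.card_eq_fintype_card] at hω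
  refine ⟨ω, ω.ne_zero, fun e => h ?_⟩
  rw [← hω]
  exact orderOf_dvd_of_pow_eq_one (Units.ext (by rw [Units.val_pow_eq_pow_val, e, Units.val_one]))

/-- The data: a central extension of a group with Steinberg relations. -/
structure Setup (E Q ι F : Type*) [Group E] [Group Q] [Field F] [Fintype F] [Fintype ι]
    [DecidableEq ι] where
  π : E →* Q
  p : ι → ι → F → Q
  surj : Function.Surjective π
  central : π.ker ≤ Subgroup.center E
  stein : Stein p
  three : 3 ≤ Fintype.card ι
  torus : ∀ i j k l : ι, ∀ s t : F, i ≠ j → k ≠ l → s ≠ 0 → t ≠ 0 →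
    Commute (T p i j s) (T p k l t)
  small3 : Fintype.card ι = 3 → Fintype.card F ≠ 2 ∧ Fintype.card F ≠ 4
  small4 : Fintype.card ι = 4 → Fintype.card F ≠ 2

variable {E Q ι F : Type*} [Group E] [Group Q] [Field F] [Fintype F] [Fintype ι] [DecidableEq ι]

namespace Setup

variable (D : Setup E Q ι F)

/-- Chosen lifts. -/
noncomputable def lf (i j : ι) (a : F) : E := Function.surjInv D.surj (D.p i j a)

theorem π_lf (i j : ι) (a : F) : D.π (D.lf i j a) = D.p i j a :=
  Function.surjInv_eq D.surj _

include D in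
theorem third (i j : ι) : ∃ k, k ≠ i ∧ k ≠ j := by
  obtain ⟨k, -, hk⟩ := Finset.exists_mem_notMem_of_card_lt_card
    (s := ({i, j} : Finset ι)) (t := Finset.univ)
    (by rw [Finset.card_univ]; have := Finset.card_le_two (a := i) (b := j); have := D.three; omega)
  simp only [Finset.mem_insert, Finset.mem_singleton, not_or] at hk
  exact ⟨k, hk⟩

theorem diff_central {u u' : E} (h : D.π u = D.π u') : u'⁻¹ * u ∈ Subgroup.center E :=
  D.central (by rw [MonoidHom.mem_ker, map_mul, map_inv, h, inv_mul_cancel])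

theorem congr {u u' v v' : E} (hu : D.π u = D.π u') (hv : D.π v = D.π v') : ⁅u, v⁆ = ⁅u', v'⁆ := by
  rw [← SchurTheory.commutatorElement_mul_mem_center (x := u') (y := v') (D.diff_central hu)
    (D.diff_central hv), mul_inv_cancel_left, mul_inv_cancel_left]

theorem commute_congr {u v v' : E} (h : Commute u v') (e : D.π v = D.π v') : Commute u v := by
  have hz := Subgroup.mem_center_iff.1 (D.diff_central e) u
  have h2 : Commute u (v'⁻¹ * v) := hz
  have := h.mul_right h2
  rwa [mul_inv_cancel_left] at this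

theorem commute_comm {u a b : E} (ha : Commute (D.π u) (D.π a)) (hb : Commute (D.π u) (D.π b)) :
    Commute u ⁅a, b⁆ := by
  have h : MulAut.conj u ⁅a, b⁆ = ⁅a, b⁆ := by
    rw [map_commutatorElement]
    refine D.congr ?_ ?_ <;>
      simp only [MulAut.conj_apply, map_mul, map_inv]
    · rw [ha.eq, mul_inv_cancel_right]
    · rw [hb.eq, mul_inv_cancel_right]
  rw [MulAut.conj_apply, mul_inv_eq_iff_eq_mul] at h
  exact h

/-- The commutator of two lifts. -/
noncomputable def gam (i j k l : ι) (a b : F) : E := ⁅D.lf i j a, D.lf k l b⁆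

theorem gam_inv (i j k l : ι) (a b : F) : (D.gam i j k l a b)⁻¹ = D.gam k l i j b a :=
  commutatorElement_inv _ _

section Gam

variable {i j k l : ι} (h1 : i ≠ j) (h2 : k ≠ l) (h3 : i ≠ l) (h4 : j ≠ k)
include h1 h2 h3 h4

theorem gam_central (a b : F) : D.gam i j k l a b ∈ Subgroup.center E :=
  D.central (by
    rw [MonoidHom.mem_ker, gam, map_commutatorElement, π_lf, π_lf,
      commutatorElement_eq_one_iff_commute]
    exact D.stein.comm i j k l h1 h2 h3 h4 a b)

theorem gam_add (a b b' : F) :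
    D.gam i j k l a (b + b') = D.gam i j k l a b * D.gam i j k l a b' := by
  have e : D.gam i j k l a (b + b') = ⁅D.lf i j a, D.lf k l b * D.lf k l b'⁆ :=
    D.congr rfl (by rw [map_mul, π_lf, π_lf, π_lf, D.stein.add k l h2])
  rw [e, comm_mul_right]
  have := Subgroup.mem_center_iff.1 (D.gam_central h1 h2 h3 h4 a b') (D.lf k l b)
  change _ * (D.lf k l b * D.gam i j k l a b' * (D.lf k l b)⁻¹) = _
  rw [this, mul_inv_cancel_right]
  rfl

theorem gam_zero (a : F) : D.gam i j k l a 0 = 1 := by
  simpa using D.gam_add h1 h2 h3 h4 a 0 0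

theorem gam_neg (a b : F) : D.gam i j k l a (-b) = (D.gam i j k l a b)⁻¹ :=
  eq_inv_of_mul_eq_one_left (by
    rw [← D.gam_add h1 h2 h3 h4, neg_add_cancel, D.gam_zero h1 h2 h3 h4])

/-- Conjugation does not change the central commutators. -/
theorem gam_conj (g : Q) {i' j' k' l' : ι} {a b a' b' : F}
    (ha : MulAut.conj g (D.p i j a) = D.p i' j' a')
    (hb : MulAut.conj g (D.p k l b) = D.p k' l' b') :
    D.gam i j k l a b = D.gam i' j' k' l' a' b' := by
  obtain ⟨u, rfl⟩ := D.surj g
  have hc := Subgroup.mem_center_iff.1 (D.gam_central h1 h2 h3 h4 a b) u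
  have e : MulAut.conj u (D.gam i j k l a b) = D.gam i j k l a b := by
    rw [MulAut.conj_apply, hc, mul_inv_cancel_right]
  rw [← e, gam, map_commutatorElement]
  refine D.congr ?_ ?_
  · rw [MulAut.conj_apply, map_mul, map_mul, map_inv, π_lf, π_lf, ← MulAut.conj_apply, ha]
  · rw [MulAut.conj_apply, map_mul, map_mul, map_inv, π_lf, π_lf, ← MulAut.conj_apply, hb]

theorem gam_trivial_of_scale (g : Q) {c : F} (hc : c ≠ 1)
    (ha : ∀ a, MulAut.conj g (D.p i j a) = D.p i j a)
    (hb : ∀ b, MulAut.conj g (D.p k l b) = D.p k l (c * b)) (a b : F) :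
    D.gam i j k l a b = 1 := by
  have hc1 : c - 1 ≠ 0 := sub_ne_zero.2 hc
  have e := D.gam_conj h1 h2 h3 h4 g (ha a) (hb (b / (c - 1)))
  rw [show c * (b / (c - 1)) = b + b / (c - 1) by field_simp; ring,
    D.gam_add h1 h2 h3 h4] at e
  exact mul_eq_right.1 e.symm

theorem gam_trivial (a b : F) : D.gam i j k l a b = 1 := by
  classical
  by_cases hm : ∃ m, m ∉ ({i, j, k, l} : Finset ι)
  · obtain ⟨m, hm⟩ := hm
    simp only [Finset.mem_insert, Finset.mem_singleton, not_or] at hm
    obtain ⟨hmi, hmj, hmk, hml⟩ := hm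
    rw [gam, commutatorElement_eq_one_iff_commute]
    refine D.commute_congr (D.commute_comm (a := D.lf k m b) (b := D.lf m l 1) ?_ ?_) ?_
    · rw [π_lf, π_lf]
      exact D.stein.comm i j k m h1 (Ne.symm hmk) (Ne.symm hmi) h4 a b
    · rw [π_lf, π_lf]
      exact D.stein.comm i j m l h1 hml h3 (Ne.symm hmj) a 1
    · rw [map_commutatorElement, π_lf, π_lf, π_lf, D.stein.rel k m l (Ne.symm hmk) hml h2,
        mul_one]
  push Not at hm
  have hsub : (Finset.univ : Finset ι) ⊆ {i, j, k, l} := fun m _ => hm m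
  have hthree := D.three
  have hq := Fintype.one_lt_card (α := F)
  by_cases hik : i = k
  · subst hik
    have hn : Fintype.card ι = 3 := by
      have : (Finset.univ : Finset ι) ⊆ {i, j, l} := fun m hm' => by
        have := hsub hm'; simp only [Finset.mem_insert, Finset.mem_singleton] at this ⊢; tauto
      have := (Finset.card_le_card this).trans Finset.card_le_three
      rw [Finset.card_univ] at this
      omega
    have hjl : j ≠ l := by
      rintro rfl
      have : (Finset.univ : Finset ι) ⊆ {i, j} := fun m hm' => by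
        have := hsub hm'; simp only [Finset.mem_insert, Finset.mem_singleton] at this ⊢; tauto
      have := (Finset.card_le_card this).trans Finset.card_le_two
      rw [Finset.card_univ] at this
      omega
    obtain ⟨hq2, hq4⟩ := D.small3 hn
    obtain ⟨c, hc0, hc3⟩ := exists_pow_ne_one (F := F) (m := 3) (fun hd => by
      rcases (Nat.dvd_prime Nat.prime_three).1 hd with h | h <;> omega)
    refine D.gam_trivial_of_scale h1 h2 h3 h4 (T D.p i l c * T D.p j l c) hc3 ?_ ?_ a b
    · intro a
      rw [map_mul, MulAut.mul_apply, T_ki D.stein hjl h1 h3 hc0,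
        T_ik D.stein h3 h1.symm hjl hc0]
      congr 1
      field_simp
    · intro b
      rw [map_mul, MulAut.mul_apply, T_kj D.stein hjl h1 h3 hc0,
        T_ij D.stein D.third h3 hc0]
      congr 1
      ring
  by_cases hjl : j = l
  · subst hjl
    have hn : Fintype.card ι = 3 := by
      have : (Finset.univ : Finset ι) ⊆ {i, j, k} := fun m hm' => by
        have := hsub hm'; simp only [Finset.mem_insert, Finset.mem_singleton] at this ⊢; tauto
      have := (Finset.card_le_card this).trans Finset.card_le_three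
      rw [Finset.card_univ] at this
      omega
    obtain ⟨hq2, hq4⟩ := D.small3 hn
    obtain ⟨c, hc0, hc3⟩ := exists_pow_ne_one (F := F) (m := 3) (fun hd => by
      rcases (Nat.dvd_prime Nat.prime_three).1 hd with h | h <;> omega)
    have hc3' : c⁻¹ ^ 3 ≠ 1 := by rw [inv_pow, ne_eq, inv_eq_one]; exact hc3
    refine D.gam_trivial_of_scale h1 h2 h3 h4 (T D.p i k c * T D.p k j c⁻¹) hc3' ?_ ?_ a b
    · intro a
      rw [map_mul, MulAut.mul_apply, T_kj D.stein h2 hik h1 (inv_ne_zero hc0),
        T_ik D.stein hik h1.symm h4 hc0]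
      congr 1
      field_simp
    · intro b
      rw [map_mul, MulAut.mul_apply, T_ij D.stein D.third h2 (inv_ne_zero hc0),
        T_jk D.stein hik h1.symm h4 hc0]
      congr 1
      ring
  have hn : Fintype.card ι ≤ 4 := by
    have := (Finset.card_le_card hsub).trans Finset.card_le_four
    rwa [Finset.card_univ] at this
  by_cases hq3 : 4 ≤ Fintype.card F
  · obtain ⟨c, hc0, hc2⟩ := exists_pow_ne_one (F := F) (m := 2) (fun hd => by
      rcases (Nat.dvd_prime Nat.prime_two).1 hd with h | h <;> omega)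
    refine D.gam_trivial_of_scale h1 h2 h3 h4 (T D.p k l c) hc2 ?_ ?_ a b
    · intro a
      exact T_root D.stein h2 hik h3 (Ne.symm (Ne.symm h4)) hjl h1 c a
    · intro b
      exact T_ij D.stein D.third h2 hc0 b
  have hq3' : Fintype.card F = 3 := by
    have h4' : Fintype.card ι = 4 := by
      refine le_antisymm hn ?_
      have hs : ({i, j, k, l} : Finset ι).card = 4 := by
        rw [Finset.card_insert_of_notMem, Finset.card_insert_of_notMem,
          Finset.card_insert_of_notMem, Finset.card_singleton] <;>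
          simp [h1, h2, h3, h4, hik, hjl]
      rw [← hs]
      exact Finset.card_le_univ _
    have := D.small4 h4'
    omega
  have hswap : ∀ a b, D.gam i j k l a b = (D.gam i j k l b a)⁻¹ := by
    intro a b
    rw [gam_inv]
    refine D.gam_conj h1 h2 h3 h4 (W D.p i k 1 * W D.p j l 1) ?_ ?_
    · rw [map_mul, MulAut.mul_apply, W_ki D.stein hjl h1 h3 one_ne_zero,
        W_ik D.stein hik (Ne.symm h3) (Ne.symm h2) one_ne_zero]
      congr 1
      ring
    · rw [map_mul, MulAut.mul_apply, W_kj D.stein hjl (Ne.symm h4) h2 one_ne_zero,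
        W_jk D.stein hik h1.symm h4 one_ne_zero]
      congr 1
      ring
  have hchar : ((3 : ℕ) : F) = 0 := by rw [← hq3', Nat.cast_card_eq_zero]
  have h11 : D.gam i j k l 1 1 = 1 := by
    have e2 : D.gam i j k l 1 1 * D.gam i j k l 1 1 = 1 := by
      nth_rewrite 1 [hswap 1 1]
      rw [inv_mul_cancel]
    have e3 : D.gam i j k l 1 1 * D.gam i j k l 1 1 * D.gam i j k l 1 1 = 1 := by
      rw [← D.gam_add h1 h2 h3 h4, ← D.gam_add h1 h2 h3 h4]
      rw [show (1 : F) + 1 + 1 = ((3 : ℕ) : F) by norm_num, hchar, D.gam_zero h1 h2 h3 h4]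
    rwa [e2, one_mul] at e3
  have htri : ∀ c : F, c = 0 ∨ c = 1 ∨ c = -1 := by
    intro c
    have e := FiniteField.pow_card c
    rw [hq3'] at e
    have : c * (c - 1) * (c + 1) = 0 := by linear_combination e
    rcases mul_eq_zero.1 this with h | h
    · rcases mul_eq_zero.1 h with h | h
      · exact Or.inl h
      · exact Or.inr (Or.inl (sub_eq_zero.1 h))
    · exact Or.inr (Or.inr (eq_neg_of_add_eq_zero_left h))
  have hone : ∀ c, D.gam i j k l 1 c = 1 := by
    intro c
    rcases htri c with rfl | rfl | rfl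
    · exact D.gam_zero h1 h2 h3 h4 1
    · exact h11
    · rw [D.gam_neg h1 h2 h3 h4, h11, inv_one]
  rcases htri b with rfl | rfl | rfl
  · exact D.gam_zero h1 h2 h3 h4 a
  · rw [hswap, hone, inv_one]
  · rw [D.gam_neg h1 h2 h3 h4, hswap, hone, inv_one, inv_one]

/-- Lifts of commuting root elements commute. -/
theorem lifts_commute {u v : E} {a b : F} (hu : D.π u = D.p i j a) (hv : D.π v = D.p k l b) :
    Commute u v := by
  rw [← commutatorElement_eq_one_iff_commute, ← D.gam_trivial h1 h2 h3 h4 a b]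
  exact D.congr (hu.trans (D.π_lf i j a).symm) (hv.trans (D.π_lf k l b).symm)

end Gam

/-- The commutator lifting `p i j (a * b)` through `k`. -/
noncomputable def f (i k j : ι) (a b : F) : E := ⁅D.lf i k a, D.lf k j b⁆

theorem π_f {i k j : ι} (h1 : i ≠ k) (h2 : k ≠ j) (h3 : i ≠ j) (a b : F) :
    D.π (D.f i k j a b) = D.p i j (a * b) := by
  rw [f, map_commutatorElement, π_lf, π_lf, D.stein.rel i k j h1 h2 h3]

theorem f_congr {i k j : ι} {a b : F} {u v : E} (hu : D.π u = D.p i k a) (hv : D.π v = D.p k j b) :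
    ⁅u, v⁆ = D.f i k j a b :=
  D.congr (hu.trans (D.π_lf i k a).symm) (hv.trans (D.π_lf k j b).symm)

theorem f_add_left {i k j : ι} (h1 : i ≠ k) (h2 : k ≠ j) (h3 : i ≠ j) (a a' b : F) :
    D.f i k j (a + a') b = D.f i k j a b * D.f i k j a' b := by
  have e : D.f i k j (a + a') b = ⁅D.lf i k a * D.lf i k a', D.lf k j b⁆ :=
    D.congr (by rw [map_mul, π_lf, π_lf, π_lf, D.stein.add i k h1]) rfl
  rw [e, comm_mul_left]
  have c1 : Commute (D.lf i k a) (D.f i k j a' b) :=
    D.lifts_commute h1 h3 h3 h1.symm (D.π_lf i k a) (D.π_f h1 h2 h3 a' b)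
  have c2 : Commute (D.f i k j a' b) (D.f i k j a b) :=
    D.lifts_commute h3 h3 h3 h3.symm (D.π_f h1 h2 h3 a' b) (D.π_f h1 h2 h3 a b)
  change D.lf i k a * D.f i k j a' b * (D.lf i k a)⁻¹ * D.f i k j a b = _
  rw [c1.eq, mul_inv_cancel_right]
  exact c2.eq

theorem f_add_right {i k j : ι} (h1 : i ≠ k) (h2 : k ≠ j) (h3 : i ≠ j) (a b b' : F) :
    D.f i k j a (b + b') = D.f i k j a b * D.f i k j a b' := by
  have e : D.f i k j a (b + b') = ⁅D.lf i k a, D.lf k j b * D.lf k j b'⁆ :=
    D.congr rfl (by rw [map_mul, π_lf, π_lf, π_lf, D.stein.add k j h2])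
  rw [e, comm_mul_right]
  have c1 : Commute (D.lf k j b) (D.f i k j a b') :=
    D.lifts_commute h2 h3 h2 h3.symm (D.π_lf k j b) (D.π_f h1 h2 h3 a b')
  change D.f i k j a b * (D.lf k j b * D.f i k j a b' * (D.lf k j b)⁻¹) = _
  rw [c1.eq, mul_inv_cancel_right]

/-- The Hall-Witt step. -/
theorem f_assoc {i k l j : ι} (hik : i ≠ k) (hkl : k ≠ l) (hlj : l ≠ j) (hil : i ≠ l)
    (hkj : k ≠ j) (hij : i ≠ j) (a b c : F) :
    D.f i l j (a * b) c = D.f i k j a (b * c) := by
  set A := D.lf i k a
  set B := D.lf k l b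
  set C := D.lf l j c
  set P := ⁅A, B⁆ with hP
  set Q' := ⁅B, C⁆ with hQ'
  have hπP : D.π P = D.p i l (a * b) := D.π_f hik hkl hil a b
  have hπQ : D.π Q' = D.p k j (b * c) := D.π_f hkl hlj hkj b c
  have e1 : D.f i l j (a * b) c = ⁅P, C⁆ := (D.f_congr hπP (D.π_lf l j c)).symm
  have e2 : D.f i k j a (b * c) = ⁅A, Q'⁆ := (D.f_congr (D.π_lf i k a) hπQ).symm
  have cAC : Commute A C := D.lifts_commute hik hlj hij hkl (D.π_lf i k a) (D.π_lf l j c)
  have cPQ : Commute P Q' := D.lifts_commute hil hkj hij hkl.symm hπP hπQ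
  have cR : Commute Q' ⁅P, C⁆ :=
    D.lifts_commute hkj hij hkj hij.symm hπQ (e1 ▸ D.π_f hil hlj hij (a * b) c)
  rw [e1, e2]
  have h : A * Q' * A⁻¹ = Q' * ⁅P, C⁆ := by
    rw [← MulAut.conj_apply, hQ', map_commutatorElement, MulAut.conj_apply, MulAut.conj_apply,
      cAC.eq, mul_inv_cancel_right, show A * B * A⁻¹ = P * B by
        rw [hP, commutatorElement_def]; group, comm_mul_left, ← hQ', cPQ.eq,
      mul_inv_cancel_right]
  rw [commutatorElement_def A Q', h, cR.eq, mul_inv_cancel_right]

/-- `f` does not depend on the factorisation. -/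
theorem f_eq {i k j : ι} (h1 : i ≠ k) (h2 : k ≠ j) (h3 : i ≠ j) (a b : F) :
    D.f i k j a b = D.f i k j (a * b) 1 := by
  classical
  by_cases hl : ∃ l, l ∉ ({i, k, j} : Finset ι)
  · obtain ⟨l, hl⟩ := hl
    simp only [Finset.mem_insert, Finset.mem_singleton, not_or] at hl
    obtain ⟨hli, hlk, hlj⟩ := hl
    have e1 := D.f_assoc h1 (Ne.symm hlk) hlj (Ne.symm hli) h2 h3 a b 1
    have e2 := D.f_assoc h1 (Ne.symm hlk) hlj (Ne.symm hli) h2 h3 (a * b) 1 1
    simp only [mul_one] at e1 e2
    rw [← e1, e2]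
  push Not at hl
  have hn : Fintype.card ι = 3 := by
    have := (Finset.card_le_card (show (Finset.univ : Finset ι) ⊆ {i, k, j} from fun m _ => hl m)).trans
      Finset.card_le_three
    rw [Finset.card_univ] at this
    have := D.three
    omega
  obtain ⟨hq2, hq4⟩ := D.small3 hn
  have hq := Fintype.one_lt_card (α := F)
  obtain ⟨d, hd0, hd1⟩ := exists_pow_ne_one (F := F) (m := 1) (fun hd => by
    have := Nat.le_of_dvd one_pos hd; omega)
  rw [pow_one] at hd1
  -- cubes can be moved across
  have hcube : ∀ c : F, c ≠ 0 → ∀ a b, D.f i k j (c ^ 3 * a) b = D.f i k j a (c ^ 3 * b) := by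
    intro c hc a b
    set t := T D.p i k c * T D.p j k c with ht
    obtain ⟨t', ht'⟩ := D.surj t
    obtain ⟨g', hg'⟩ := D.surj (T D.p i k d)
    have hfix : ∀ a, MulAut.conj t (D.p i j a) = D.p i j a := by
      intro a
      rw [ht, map_mul, MulAut.mul_apply, T_ki D.stein h2.symm h3 h1 hc,
        T_ik D.stein h1 h3.symm h2.symm hc]
      congr 1
      field_simp
    have hlift : ∀ (v : E) (a : F), D.π v = D.p i j a → Commute t' v := by
      intro v a hv
      have hd' : d - 1 ≠ 0 := sub_ne_zero.2 hd1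
      have hc1 : Commute (D.π t') (D.π g') := by
        rw [ht', hg', ht]
        exact (D.torus i k i k c d h1 h1 hc hd0).mul_left (D.torus j k i k c d h2.symm h1 hc hd0)
      have hc2 : Commute (D.π t') (D.π (D.lf i j (a / (d - 1)))) := by
        have := hfix (a / (d - 1))
        rw [MulAut.conj_apply, mul_inv_eq_iff_eq_mul] at this
        rw [ht', π_lf]
        exact this
      refine D.commute_congr (D.commute_comm hc1 hc2) ?_
      have h : MulAut.conj (T D.p i k d) (D.p i j (a / (d - 1))) = D.p i j (d * (a / (d - 1))) :=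
        T_ik D.stein h1 h3.symm h2.symm hd0 _
      rw [MulAut.conj_apply] at h
      rw [hv, map_commutatorElement, π_lf, hg', commutatorElement_def, h, ← x_neg D.stein h3,
        ← D.stein.add i j h3]
      congr 1
      field_simp
      ring
    have e : MulAut.conj t' (D.f i k j a (c ^ 3 * b)) = D.f i k j a (c ^ 3 * b) := by
      rw [MulAut.conj_apply, (hlift _ _ (D.π_f h1 h2 h3 a _)).eq, mul_inv_cancel_right]
    rw [← e, f, f, map_commutatorElement]
    refine (D.f_congr ?_ ?_).symm
    · rw [MulAut.conj_apply, map_mul, map_mul, map_inv, π_lf, ht', ← MulAut.conj_apply, ht, map_mul,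
        MulAut.mul_apply, T_kj D.stein h2.symm h3 h1 hc, T_ij D.stein D.third h1 hc]
      congr 1
      ring
    · rw [MulAut.conj_apply, map_mul, map_mul, map_inv, π_lf, ht', ← MulAut.conj_apply, ht, map_mul,
        MulAut.mul_apply, T_ji D.stein D.third h2.symm hc,
        T_jk D.stein h1 h3.symm h2.symm hc]
      congr 1
      field_simp
  -- they span the field
  have f0l : ∀ b, D.f i k j 0 b = 1 := fun b => by simpa using D.f_add_left h1 h2 h3 0 0 b
  have f0r : ∀ a, D.f i k j a 0 = 1 := fun a => by simpa using D.f_add_right h1 h2 h3 a 0 0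
  let K : Subring F :=
    { carrier := {μ | ∀ a b, D.f i k j (μ * a) b = D.f i k j a (μ * b)}
      mul_mem' := fun {x y} hx hy a b => by
        rw [mul_assoc, hx, hy, ← mul_assoc, mul_comm x y]
      one_mem' := fun a b => by rw [one_mul, one_mul]
      add_mem' := fun {x y} hx hy a b => by
        rw [add_mul, add_mul, D.f_add_left h1 h2 h3, D.f_add_right h1 h2 h3, hx, hy]
      zero_mem' := fun a b => by rw [zero_mul, zero_mul, f0l, f0r]
      neg_mem' := fun {x} hx a b => by
        have e1 : D.f i k j (-(x * a)) b = (D.f i k j (x * a) b)⁻¹ :=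
          eq_inv_of_mul_eq_one_left (by rw [← D.f_add_left h1 h2 h3, neg_add_cancel, f0l])
        have e2 : D.f i k j a (-(x * b)) = (D.f i k j a (x * b))⁻¹ :=
          eq_inv_of_mul_eq_one_left (by rw [← D.f_add_right h1 h2 h3, neg_add_cancel, f0r])
        rw [neg_mul, neg_mul, e1, e2, hx] }
  suffices hall : ∀ μ, μ ∈ K by
    have := hall b a 1
    rw [mul_one, mul_comm b a] at this
    exact this.symm
  by_contra hcon
  push Not at hcon
  obtain ⟨α, hα⟩ := hcon
  have hinv : ∀ y ∈ K, y⁻¹ ∈ K := by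
    intro y hy
    rcases eq_or_ne y 0 with rfl | hy0
    · simp
    have e : y⁻¹ = y ^ (Fintype.card F - 2) := by
      refine inv_eq_of_mul_eq_one_right ?_
      rw [← pow_succ', show Fintype.card F - 2 + 1 = Fintype.card F - 1 by omega,
        FiniteField.pow_card_sub_one_eq_one y hy0]
    rw [e]
    exact pow_mem hy _
  have hsq : Nat.card K * Nat.card K ≤ Fintype.card F := by
    rw [← Nat.card_prod, ← Nat.card_eq_fintype_card]
    refine Nat.card_le_card_of_injective (fun uv : K × K => (uv.1 : F) + uv.2 * α) ?_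
    rintro ⟨u, v⟩ ⟨u', v'⟩ e
    simp only at e
    by_cases hv : (v : F) = v'
    · rw [hv] at e
      exact Prod.ext (Subtype.ext (add_right_cancel e)) (Subtype.ext hv)
    · refine absurd ?_ hα
      rw [show α = ((u' : F) - u) * ((v : F) - v')⁻¹ by
        field_simp [sub_ne_zero.2 hv]
        linear_combination e]
      exact mul_mem (sub_mem u'.2 u.2) (hinv _ (sub_mem v.2 v'.2))
  let cube : Fˣ →* Fˣ := powMonoidHom 3
  have hker : Nat.card cube.ker ≤ 3 := by
    rw [IsCyclic.card_powMonoidHom_ker]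
    exact Nat.le_of_dvd (by norm_num) (Nat.gcd_dvd_right _ _)
  have hrange : Nat.card cube.range + 1 ≤ Nat.card K := by
    classical
    haveI : Fintype K := Fintype.ofFinite K
    rw [← Finite.card_option]
    refine Nat.card_le_card_of_injective (fun o => Option.elim o (0 : K) (fun x => ⟨((x : Fˣ) : F), ?_⟩)) ?_
    · obtain ⟨y, hy⟩ := x.2
      rw [← hy]
      exact fun a b => by
        simpa [cube] using hcube (y : F) y.ne_zero a b
    · rintro (_ | x) (_ | y) e
      · rfl
      · exact absurd (congrArg Subtype.val e).symm (y : Fˣ).ne_zero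
      · exact absurd (congrArg Subtype.val e) (x : Fˣ).ne_zero
      · simp only [Option.elim, Subtype.mk.injEq] at e
        rw [Subtype.ext (Units.ext e)]
  have hmul : Nat.card cube.ker * Nat.card cube.range = Fintype.card F - 1 := by
    rw [← Subgroup.index_ker, mul_comm, Subgroup.index_mul_card, Nat.card_units,
      Nat.card_eq_fintype_card]
  have h3 : Fintype.card F - 1 ≤ 3 * Nat.card cube.range :=
    hmul ▸ Nat.mul_le_mul_right _ hker
  have : (Nat.card K) * (Nat.card K) + 3 ≤ 3 * Nat.card K + 1 := by omega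
  have hK : Nat.card K ≤ 2 := by nlinarith
  have hr : 0 < Nat.card cube.range := Nat.card_pos
  have hK2 : Nat.card K = 2 := by omega
  rw [hK2] at hsq
  omega

/-- The lifted root elements. -/
noncomputable def X (i j : ι) (a : F) : E := D.f i (D.third i j).choose j a 1

theorem X_eq {i k j : ι} (h1 : i ≠ k) (h2 : k ≠ j) (h3 : i ≠ j) (a b : F) :
    D.f i k j a b = D.X i j (a * b) := by
  rw [D.f_eq h1 h2 h3, X]
  set l := (D.third i j).choose
  obtain ⟨hli, hlj⟩ := (D.third i j).choose_spec
  rcases eq_or_ne k l with e | hkl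
  · rw [e]
  · have := D.f_assoc h1 hkl hlj hli.symm h2 h3 (a * b) 1 1
    simp only [mul_one] at this
    exact this.symm

theorem π_X {i j : ι} (h : i ≠ j) (a : F) : D.π (D.X i j a) = D.p i j a := by
  obtain ⟨hli, hlj⟩ := (D.third i j).choose_spec
  rw [X, D.π_f hli.symm hlj h, mul_one]

/-- The lifted root elements satisfy the Steinberg relations. -/
theorem stein_X : Stein D.X where
  add i j h s t := by
    obtain ⟨hli, hlj⟩ := (D.third i j).choose_spec
    exact D.f_add_left hli.symm hlj h s t 1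
  comm i j k l h1 h2 h3 h4 a b := D.lifts_commute h1 h2 h3 h4 (D.π_X h1 a) (D.π_X h2 b)
  rel i j k h1 h2 h3 a b := by rw [D.f_congr (D.π_X h1 a) (D.π_X h2 b), D.X_eq h1 h2 h3]

/-- They generate a perfect extension. -/
theorem gen_X (hgen : Subgroup.closure {g | ∃ i j, i ≠ j ∧ ∃ a, g = D.p i j a} = ⊤)
    (hE : commutator E = ⊤) :
    Subgroup.closure {g | ∃ i j, i ≠ j ∧ ∃ a, g = D.X i j a} = ⊤ := by
  set H := Subgroup.closure {g | ∃ i j, i ≠ j ∧ ∃ a, g = D.X i j a} with hH
  have hs : Function.Surjective (D.π.comp H.subtype) := by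
    rw [← MonoidHom.range_eq_top, MonoidHom.range_comp, Subgroup.range_subtype, eq_top_iff, ← hgen,
      Subgroup.closure_le]
    rintro _ ⟨i, j, hij, a, rfl⟩
    exact ⟨D.X i j a, Subgroup.subset_closure ⟨i, j, hij, a, rfl⟩, D.π_X hij a⟩
  have h := SchurTheory.map_commutator_eq D.π D.central H.subtype hs
  rw [hE] at h
  rw [eq_top_iff, ← h]
  exact Subgroup.map_subtype_le _

end Setup

end CfsgLib.MultPSL
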