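import Cfsg.Agent.SL2Steinberg.Basic
import Cfsg.Agent.SchurTheory.Basic
import Mathlib.FieldTheory.Finite.Basic

/-!
# Lifting the rank one relations to a central extension

For `q ≥ 5`, `q ≠ 9` the rank one Steinberg relations lift to every perfect central extension.
-/

set_option autoImplicit false
set_option linter.unusedSectionVars false
set_option linter.style.haveILetI false

namespace CfsgLib.MultPSL

open scoped commutatorElement
open Polynomial in
/-- Squares `u²`, `u² + 1 = v²` with a non-degeneracy condition. -/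
theorem exists_square_pair {F : Type*} [Field F] [Fintype F] (h4 : 5 ≤ Fintype.card F)
    (h9 : Fintype.card F ≠ 9) :
    (∀ a : F, ∃ m : ℕ, a = m) ∨
      ∃ u v : F, u ≠ 0 ∧ v ≠ 0 ∧ u ^ 2 + 1 = v ^ 2 ∧ u ^ 4 + u ^ 2 + 1 ≠ 0 := by
  classical
  obtain ⟨p, hpF⟩ := CharP.exists F
  obtain ⟨n, hp, hcard⟩ := FiniteField.card F p
  rcases eq_or_ne (n : ℕ) 1 with hn | hn
  · left
    haveI : NeZero p := ⟨hp.ne_zero⟩
    rw [hn, pow_one] at hcard
    intro a
    obtain ⟨b, hb⟩ := (ZMod.castHom_bijective F hcard).2 a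
    exact ⟨b.val, by rw [← hb, ← map_natCast (ZMod.castHom dvd_rfl F) b.val, ZMod.natCast_zmod_val]⟩
  right
  have hn2 : 2 ≤ (n : ℕ) := by have := n.pos; omega
  rcases eq_or_ne p 2 with rfl | hp2
  · haveI : CharP F 2 := hpF
    have hq : 8 ≤ Fintype.card F := by
      rcases Nat.lt_or_ge (n : ℕ) 3 with h | h
      · rw [hcard, show (n : ℕ) = 2 by omega] at h4; omega
      · rw [hcard]
        exact le_trans (by norm_num) (Nat.pow_le_pow_right two_pos h)
    obtain ⟨ω, hω⟩ := IsCyclic.exists_ofOrder_eq_natCard (α := Fˣ)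
    rw [Nat.card_units, Nat.card_eq_fintype_card] at hω
    have hchar : ringChar F = 2 := ringChar.eq F 2
    obtain ⟨u, hu⟩ := FiniteField.isSquare_of_char_two hchar (ω : F)
    obtain ⟨v, hv⟩ := FiniteField.isSquare_of_char_two hchar ((ω : F) + 1)
    have hne : ∀ k, 0 < k → k < 7 → (ω : F) ^ k ≠ 1 := by
      intro k hk hk7 e
      have : orderOf ω ∣ k := orderOf_dvd_of_pow_eq_one (Units.ext (by rw [Units.val_pow_eq_pow_val, e, Units.val_one]))
      have := Nat.le_of_dvd hk this
      omega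
    refine ⟨u, v, ?_, ?_, by rw [pow_two, ← hu, pow_two, ← hv], ?_⟩
    · rintro rfl
      simp at hu
    · rintro rfl
      apply hne 1 one_pos (by norm_num)
      have h2 : (2 : F) = 0 := CharTwo.two_eq_zero
      linear_combination hv - h2
    · intro e
      apply hne 3 (by norm_num) (by norm_num)
      have e2 : (ω : F) ^ 2 + ω + 1 = 0 := by
        rw [hu, ← e]; ring
      linear_combination ((ω : F) - 1) * e2
  · have hp3 : 3 ≤ p := by have := hp.two_le; omega
    have hq : 14 ≤ Fintype.card F := by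
      rw [hcard] at h9 ⊢
      rcases Nat.lt_or_ge p 5 with h | h
      · obtain rfl : p = 3 := by
          have : p ≠ 4 := fun e => by rw [e] at hp; norm_num at hp
          omega
        rcases Nat.lt_or_ge (n : ℕ) 3 with h' | h'
        · exact absurd (by rw [show (n : ℕ) = 2 by omega]; norm_num) h9
        · exact le_trans (by norm_num) (Nat.pow_le_pow_right (by norm_num) h')
      · calc 14 ≤ 5 ^ 2 := by norm_num
          _ ≤ p ^ 2 := Nat.pow_le_pow_left h 2
          _ ≤ p ^ (n : ℕ) := Nat.pow_le_pow_right hp.pos hn2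
    have h2 : (2 : F) ≠ 0 := Ring.two_ne_zero (by
      rw [ringChar.eq F p]; exact hp2)
    let P : F[X] := (1 - X ^ 2) ^ 4 + C 4 * X ^ 2 * (1 - X ^ 2) ^ 2 + C 16 * X ^ 4
    let R : F[X] := X * ((X ^ 4 - 1) * P)
    have hR : R ≠ 0 := by
      refine mul_ne_zero X_ne_zero (mul_ne_zero ?_ ?_)
      · intro e
        have := congrArg (eval 0) e
        simp at this
      · intro e
        have := congrArg (eval 0) e
        simp [P] at this
    have hdeg : R.natDegree ≤ 13 := by
      simp only [R, P]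
      compute_degree
    obtain ⟨r, hr⟩ : ∃ r, eval r R ≠ 0 := by
      by_contra hcon
      push Not at hcon
      exact hR (eq_zero_of_natDegree_lt_card_of_eval_eq_zero' R Finset.univ (fun r _ => hcon r)
        (by rw [Finset.card_univ]; omega))
    simp only [R, P, eval_mul, eval_sub, eval_pow, eval_X, eval_one, eval_add, eval_C,
      mul_ne_zero_iff] at hr
    obtain ⟨hr0, hr4, hrP⟩ := hr
    refine ⟨(1 - r ^ 2) / (2 * r), (1 + r ^ 2) / (2 * r), ?_, ?_, ?_, ?_⟩
    · refine div_ne_zero (fun e => hr4 ?_) (mul_ne_zero h2 hr0)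
      linear_combination -(r ^ 2 + 1) * e
    · refine div_ne_zero (fun e => hr4 ?_) (mul_ne_zero h2 hr0)
      linear_combination (r ^ 2 - 1) * e
    · field_simp
      ring
    · intro e
      apply hrP
      have hr' : (2 * r) ^ 4 ≠ 0 := pow_ne_zero 4 (mul_ne_zero h2 hr0)
      have e' := congrArg (· * (2 * r) ^ 4) e
      simp only [zero_mul, add_mul, div_pow, one_mul] at e'
      rw [div_mul_cancel₀ _ hr', show (1 - r ^ 2) ^ 2 / (2 * r) ^ 2 * (2 * r) ^ 4 =
        (1 - r ^ 2) ^ 2 * (2 * r) ^ 2 by field_simp] at e'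
      linear_combination e'

variable {E Q F : Type*} [Group E] [Group Q] [Field F] [Fintype F] {X Y : F → Q}

open SL2Steinberg in
theorem H_mul (R : Rel X Y) {s t : F} (hs : s ≠ 0) (ht : t ≠ 0) :
    H X Y (s * t) = H X Y s * H X Y t ∧ Commute (H X Y s) (H X Y t) := by
  obtain ⟨ω, hω, hpow, hall⟩ := exists_torus_gen R
  have htop : Subgroup.zpowers ω = ⊤ := Subgroup.eq_top_of_card_eq _
    (by rw [Nat.card_zpowers, hω, Nat.card_units, Nat.card_eq_fintype_card])
  have key : ∀ x : F, x ≠ 0 → ∃ k : ℕ, x = (ω : F) ^ k := by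
    intro x hx
    obtain ⟨k, hk⟩ : ∃ k : ℕ, ω ^ k = Units.mk0 x hx :=
      mem_powers_iff_mem_zpowers.2 (htop ▸ Subgroup.mem_top _)
    exact ⟨k, by rw [← Units.val_pow_eq_pow_val, hk, Units.val_mk0]⟩
  obtain ⟨a, rfl⟩ := key s hs
  obtain ⟨b, rfl⟩ := key t ht
  rw [← pow_add, hall, hall, hall, pow_add]
  exact ⟨rfl, (Commute.refl _).pow_pow a b⟩

open SL2Steinberg in
/-- The bound for a perfect central extension of a group with rank one relations. -/
theorem card_le_two (π : E →* Q) (hs : Function.Surjective π) (hc : π.ker ≤ Subgroup.center E)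
    (hE : commutator E = ⊤) (R : Rel X Y) (h4 : 5 ≤ Fintype.card F) (h9 : Fintype.card F ≠ 9) :
    Finite E ∧ Nat.card E ≤
      Fintype.card F * (Fintype.card F - 1) * (Fintype.card F + 1) := by
  have cong : ∀ {u u' v v' : E}, π u = π u' → π v = π v' → ⁅u, v⁆ = ⁅u', v'⁆ := by
    intro u u' v v' hu hv
    rw [← SchurTheory.commutatorElement_mul_mem_center (x := u') (y := v')
      (hc (by rw [MonoidHom.mem_ker, map_mul, map_inv, hu, inv_mul_cancel]) : u'⁻¹ * u ∈ _)
      (hc (by rw [MonoidHom.mem_ker, map_mul, map_inv, hv, inv_mul_cancel]) : v'⁻¹ * v ∈ _),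
      mul_inv_cancel_left, mul_inv_cancel_left]
  let lx : F → E := fun a => Function.surjInv hs (X a)
  let ly : F → E := fun a => Function.surjInv hs (Y a)
  have plx : ∀ a, π (lx a) = X a := fun a => Function.surjInv_eq hs _
  have ply : ∀ a, π (ly a) = Y a := fun a => Function.surjInv_eq hs _
  -- the lifts of `X` commute
  let γ : F → F → E := fun a b => ⁅lx a, lx b⁆
  have γc : ∀ a b, γ a b ∈ Subgroup.center E := fun a b => hc (by
    rw [MonoidHom.mem_ker, map_commutatorElement, plx, plx, commutatorElement_eq_one_iff_commute,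
      commute_iff_eq, ← R.addX, ← R.addX, add_comm])
  have γr : ∀ a b b', γ a (b + b') = γ a b * γ a b' := by
    intro a b b'
    have e : γ a (b + b') = ⁅lx a, lx b * lx b'⁆ :=
      cong rfl (by rw [map_mul, plx, plx, plx, R.addX])
    rw [e]
    have := Subgroup.mem_center_iff.1 (γc a b') (lx b)
    calc ⁅lx a, lx b * lx b'⁆ = γ a b * (lx b * γ a b' * (lx b)⁻¹) := by
          simp only [γ, commutatorElement_def]; group
      _ = _ := by rw [this, mul_inv_cancel_right]
  have γinv : ∀ a b, (γ a b)⁻¹ = γ b a := fun a b => commutatorElement_inv _ _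
  have γl : ∀ a a' b, γ (a + a') b = γ a b * γ a' b := by
    intro a a' b
    rw [← γinv b, γr, mul_inv_rev, γinv, γinv, Subgroup.mem_center_iff.1 (γc a b)]
  have γ0 : ∀ a, γ a 0 = 1 := fun a => by simpa using γr a 0 0
  have γself : ∀ a, γ a a = 1 := fun a => commutatorElement_self _
  have γsc : ∀ s : F, s ≠ 0 → ∀ a b, γ (s ^ 2 * a) (s ^ 2 * b) = γ a b := by
    intro s hs0 a b
    obtain ⟨g, hg⟩ := hs (H X Y s)
    have hπ : ∀ a, π (MulAut.conj g (lx a)) = X (s ^ 2 * a) := fun a => by
      rw [MulAut.conj_apply, map_mul, map_mul, map_inv, hg, plx, H_X R hs0]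
    have e : MulAut.conj g (γ a b) = γ a b := by
      rw [MulAut.conj_apply, Subgroup.mem_center_iff.1 (γc a b) g, mul_inv_cancel_right]
    conv_rhs => rw [← e]
    simp only [γ]
    rw [map_commutatorElement]
    exact cong ((plx _).trans (hπ a).symm) ((plx _).trans (hπ b).symm)
  have γ1 : ∀ a b, γ a b = 1 := by
    intro a b
    rcases exists_square_pair h4 h9 with hprime | ⟨u, v, hu, hv, huv, hne⟩
    · have hnat : ∀ (a b : F), γ b b = 1 → ∀ m : ℕ, γ b (m * b) = 1 := by
        intro _ b hb m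
        induction m with
        | zero => rw [Nat.cast_zero, zero_mul, γ0]
        | succ m ih => rw [Nat.cast_succ, add_mul, one_mul, γr, ih, hb, one_mul]
      have hb1 : ∀ b, γ 1 b = 1 := fun b => by
        obtain ⟨m, rfl⟩ := hprime b
        simpa using hnat 1 1 (γself 1) m
      obtain ⟨m, rfl⟩ := hprime a
      induction m with
      | zero => rw [Nat.cast_zero, ← γinv, γ0, inv_one]
      | succ m ih => rw [Nat.cast_succ, γl, ih, hb1, one_mul]
    · set x := u ^ 2 with hx
      have key : ∀ a b, γ (x * a) b * γ a (x * b) * γ a b = 1 := by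
        intro a b
        have e := γsc v hv a b
        rw [← huv, add_mul, add_mul, one_mul, one_mul, γl, γr, γr, hx, γsc u hu] at e
        rw [mul_assoc] at e
        have := mul_left_cancel (a := γ a b) (b := γ (x * a) b * (γ a (x * b) * γ a b)) (c := 1)
          (by rw [mul_one]; exact e)
        rw [mul_assoc]
        exact this
      have key2 : ∀ a b, γ a ((x ^ 2 + x + 1) * b) = 1 := by
        intro a b
        have e := key a (x * b)
        rw [hx, γsc u hu] at e
        rw [show (x ^ 2 + x + 1) * b = b + (x * (x * b) + x * b) by ring, γr, γr, ← mul_assoc]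
        exact e
      have hne' : x ^ 2 + x + 1 ≠ 0 := by rw [hx, ← pow_mul]; exact hne
      have := key2 a (b / (x ^ 2 + x + 1))
      rwa [mul_div_cancel₀ _ hne'] at this
  have lcomm : ∀ {u v : E} {a b : F}, π u = X a → π v = X b → Commute u v := by
    intro u v a b hu hv
    rw [← commutatorElement_eq_one_iff_commute, ← γ1 a b]
    exact cong (hu.trans (plx a).symm) (hv.trans (plx b).symm)
  -- canonical lifts
  obtain ⟨c, hc0, hc2⟩ : ∃ c : F, c ≠ 0 ∧ c ^ 2 - 1 ≠ 0 := by
    obtain ⟨ω, hω⟩ := IsCyclic.exists_ofOrder_eq_natCard (α := Fˣ)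
    rw [Nat.card_units, Nat.card_eq_fintype_card] at hω
    refine ⟨ω, ω.ne_zero, fun e => ?_⟩
    have : orderOf ω ∣ 2 := orderOf_dvd_of_pow_eq_one (Units.ext (by
      rw [Units.val_pow_eq_pow_val, Units.val_one]; linear_combination e))
    have := Nat.le_of_dvd two_pos this
    omega
  obtain ⟨h, hh⟩ := hs (H X Y c)
  have hinv : (H X Y c)⁻¹ = H X Y c⁻¹ := by
    refine inv_eq_of_mul_eq_one_right ?_
    rw [← (H_mul R hc0 (inv_ne_zero hc0)).1, mul_inv_cancel₀ hc0, H_one R]
  let X' : F → E := fun v => ⁅h, lx (v / (c ^ 2 - 1))⁆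
  let Y' : F → E := fun v => ⁅h⁻¹, ly (v / (c ^ 2 - 1))⁆
  have pX : ∀ v, π (X' v) = X v := by
    intro v
    show π ⁅h, lx (v / (c ^ 2 - 1))⁆ = X v
    rw [map_commutatorElement, hh, plx, commutatorElement_def, H_X R hc0]
    rw [← X_neg R, ← R.addX]
    congr 1
    field_simp
    ring
  have pY : ∀ v, π (Y' v) = Y v := by
    intro v
    show π ⁅h⁻¹, ly (v / (c ^ 2 - 1))⁆ = Y v
    rw [map_commutatorElement, map_inv, hh, ply, hinv, commutatorElement_def,
      H_Y R (inv_ne_zero hc0), inv_inv]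
    rw [← Y_neg R, ← R.addY]
    congr 1
    field_simp
    ring
  have addX' : ∀ s t, X' (s + t) = X' s * X' t := by
    intro s t
    have e : X' (s + t) = ⁅h, lx (s / (c ^ 2 - 1)) * lx (t / (c ^ 2 - 1))⁆ :=
      cong rfl (by rw [map_mul, plx, plx, plx, ← R.addX, add_div])
    rw [e, show ⁅h, lx (s / (c ^ 2 - 1)) * lx (t / (c ^ 2 - 1))⁆ =
      X' s * (lx (s / (c ^ 2 - 1)) * X' t * (lx (s / (c ^ 2 - 1)))⁻¹) by
        simp only [X', commutatorElement_def]; group,
      (lcomm (plx _) (pX t)).eq, mul_inv_cancel_right]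
  have wX' : ∀ t v : F, t ≠ 0 →
      (X' t * Y' (-t⁻¹) * X' t) * X' v * (X' t * Y' (-t⁻¹) * X' t)⁻¹ = Y' (-(t⁻¹ ^ 2 * v)) := by
    intro t v ht
    set g := X' t * Y' (-t⁻¹) * X' t with hg
    have hgπ : π g = W X Y t := by rw [hg, map_mul, map_mul, pX, pY]; rfl
    rw [← MulAut.conj_apply]
    simp only [X', map_commutatorElement]
    refine cong ?_ ?_
    · rw [MulAut.conj_apply, map_mul, map_mul, map_inv, map_inv, hgπ, hh, W_eq_H_mul R t, hinv]
      calc H X Y t * W X Y 1 * H X Y c * (H X Y t * W X Y 1)⁻¹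
          = H X Y t * (W X Y 1 * H X Y c * (W X Y 1)⁻¹) * (H X Y t)⁻¹ := by group
        _ = _ := by
          rw [W1_conj_H R hc0, (H_mul R ht (inv_ne_zero hc0)).2.eq, mul_inv_cancel_right]
    · rw [MulAut.conj_apply, map_mul, map_mul, map_inv, hgπ, plx, ply, W_X R ht]
      congr 1
      ring
  have addY' : ∀ s t, Y' (s + t) = Y' s * Y' t := by
    intro s t
    have e : ∀ v, Y' v = MulAut.conj (X' 1 * Y' (-1⁻¹) * X' 1) (X' (-v)) := fun v => by
      rw [MulAut.conj_apply, wX' 1 (-v) one_ne_zero]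
      simp
    rw [e, e s, e t, ← map_mul, ← addX', neg_add]
  set K := Subgroup.closure (Set.range X' ∪ Set.range Y') with hK
  have hsK : Function.Surjective (π.comp K.subtype) := by
    rw [← MonoidHom.range_eq_top, MonoidHom.range_comp, Subgroup.range_subtype, eq_top_iff, ← R.gen,
      Subgroup.closure_le]
    rintro _ (⟨v, rfl⟩ | ⟨v, rfl⟩)
    · exact ⟨X' v, Subgroup.subset_closure (Or.inl ⟨v, rfl⟩), pX v⟩
    · exact ⟨Y' v, Subgroup.subset_closure (Or.inr ⟨v, rfl⟩), pY v⟩
  have hgen : K = ⊤ := by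
    have h := SchurTheory.map_commutator_eq π hc K.subtype hsK
    rw [hE] at h
    rw [eq_top_iff, ← h]
    exact Subgroup.map_subtype_le _
  exact card_le ⟨hgen, addX', addY', wX'⟩

end CfsgLib.MultPSL
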