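import Cfsg.Agent.MultPSL.Bound
import Cfsg.Agent.MultPSL.LiftsHigh
import Cfsg.Agent.MultPSL.LiftsTwo
import Cfsg.Agent.Linear.Perfect
import Cfsg.Agent.WordLaws.Embed

/-!
# The Schur multiplier of `PSL_n(q)`

Every stem extension has at most `|SL_n(q)|` elements outside the five exceptional pairs, and `SL_n(q)`
is a stem extension with cyclic kernel.
-/

set_option autoImplicit false
set_option linter.unusedSectionVars false
set_option linter.style.haveILetI false

namespace CfsgLib.MultPSL

open scoped commutatorElement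
open Matrix

universe u v

theorem commutator_eq_top_of_stem {E : Type*} [Group E] {Q : Type*} [Group Q] (σ : E →* Q)
    (hσ : Cfsg.IsStemExtension σ) (hQ : commutator Q = ⊤) : commutator E = ⊤ := by
  rw [eq_top_iff]
  intro e _
  have hm : (commutator E).map σ = commutator Q := by
    rw [commutator_def, commutator_def, Subgroup.map_commutator, ← MonoidHom.range_eq_map,
      MonoidHom.range_eq_top.2 hσ.1]
  obtain ⟨c, hc, hce⟩ : σ e ∈ (commutator E).map σ := by rw [hm, hQ]; trivial
  have : c⁻¹ * e ∈ commutator E := hσ.2.2 (by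
    rw [MonoidHom.mem_ker, map_mul, map_inv, hce, inv_mul_cancel])
  simpa using mul_mem hc this

/-- A stem extension with cyclic kernel and the largest possible order gives the multiplier. -/
theorem hasCyclicSchurMultiplier_of_bound {Q : Type u} [Group Q] [Finite Q] {Γ : Type v} [Group Γ]
    [Finite Γ] (σ : Γ →* Q) (hσ : Cfsg.IsStemExtension σ) [IsCyclic σ.ker] {m : ℕ}
    (hm : Nat.card σ.ker = m)
    (hbound : ∀ (Δ : Type u) [Group Δ] [Finite Δ] (τ : Δ →* Q), Cfsg.IsStemExtension τ →
      Nat.card Δ ≤ Nat.card Γ) : Cfsg.HasCyclicSchurMultiplier Q m := by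
  haveI : NeZero m := ⟨hm ▸ Nat.card_pos.ne'⟩
  obtain ⟨Δ, _, _, τ, hτ, ⟨e⟩⟩ := SchurTheory.exists_cover Q
  obtain ⟨f, hf⟩ := SchurTheory.exists_mult_surjective_stem σ hσ
  have hcard : ∀ {G : Type _} [Group G] [Finite G] (π : G →* Q), Function.Surjective π →
      Nat.card π.ker * Nat.card Q = Nat.card G := by
    intro G _ _ π hπ
    rw [← Subgroup.card_top (G := Q), ← MonoidHom.range_eq_top.2 hπ, ← Subgroup.index_ker,
      Subgroup.card_mul_index]
  have hle : Nat.card (SchurTheory.mult Q) ≤ Nat.card σ.ker := by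
    rw [← Nat.card_congr e.toEquiv]
    refine Nat.le_of_mul_le_mul_right ?_ (Nat.card_pos (α := Q))
    rw [hcard τ hτ.1]
    refine (hbound Δ τ hτ).trans_eq ?_
    rw [← Subgroup.card_mul_index σ.ker, Subgroup.index_ker, MonoidHom.range_eq_top.2 hσ.1,
      Subgroup.card_top]
  have hge := Nat.card_le_card_of_surjective f hf
  have hb : Function.Bijective f :=
    (Nat.bijective_iff_surjective_and_card f).2 ⟨hf, le_antisymm hle hge⟩
  rw [SchurTheory.hasCyclicSchurMultiplier_iff]
  exact ⟨(MulEquiv.ofBijective f hb).isCyclic.2 inferInstance,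
    (Nat.card_congr (MulEquiv.ofBijective f hb).toEquiv).trans hm⟩

variable {ι : Type*} [Fintype ι] [DecidableEq ι] {F : Type*} [Field F]

/-- The elementary matrices, extended by `1` on the diagonal index pairs. -/
def el (i j : ι) (a : F) : Matrix.SpecialLinearGroup ι F :=
  if h : i ≠ j then Matrix.SpecialLinearGroup.transvection h a else 1

theorem el_eq {i j : ι} (h : i ≠ j) (a : F) :
    el i j a = Matrix.SpecialLinearGroup.transvection h a := dif_pos h

theorem stein_el : Stein (el : ι → ι → F → Matrix.SpecialLinearGroup ι F) where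
  add i j h s t := by
    rw [el_eq h, el_eq h, el_eq h]
    apply Linear.sl_ext_mulVec
    intro w l
    simp only [Matrix.SpecialLinearGroup.coe_mul, ← Matrix.mulVec_mulVec,
      Linear.transvection_smul_apply, if_neg h.symm]
    split_ifs <;> ring
  comm i j k l h1 h2 h3 h4 a b := by
    rw [el_eq h1, el_eq h2]
    apply Linear.sl_ext_mulVec
    intro w m
    simp only [Matrix.SpecialLinearGroup.coe_mul, ← Matrix.mulVec_mulVec,
      Linear.transvection_smul_apply, if_neg h4, if_neg h3.symm]
    split_ifs <;> ring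
  rel i j k h1 h2 h3 a b := by
    rw [el_eq h1, el_eq h2, el_eq h3, Linear.commutator_transvection h3 h1 h2]

theorem T_el_eq {i j : ι} (h : i ≠ j) {t : F} (ht : t ≠ 0) :
    T el i j t = Matrix.SpecialLinearGroup.diag2n h t ht := by
  rw [Linear.diag2n_eq_transvections h t ht, T, W, W, el_eq h, el_eq h.symm, el_eq h, el_eq h.symm]
  simp [mul_assoc]

theorem T_el_comm {i j k l : ι} (h1 : i ≠ j) (h2 : k ≠ l) {s t : F} (hs : s ≠ 0) (ht : t ≠ 0) :
    Commute (T el i j s) (T el k l t) := by
  rw [T_el_eq h1 hs, T_el_eq h2 ht]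
  apply Subtype.ext
  simp only [Matrix.SpecialLinearGroup.coe_mul, Matrix.SpecialLinearGroup.diag2n_coe,
    Matrix.diagonal_mul_diagonal, mul_comm]

theorem closure_el : Subgroup.closure {g | ∃ i j, i ≠ j ∧ ∃ a, g = el (F := F) (ι := ι) i j a} = ⊤ :=
  Linear.sl_eq_top_of_transvections fun i j h c =>
    Subgroup.subset_closure ⟨i, j, h, c, (el_eq h c).symm⟩

/-- The root elements of `PSL`. -/
def proot (i j : ι) (a : F) : Matrix.ProjectiveSpecialLinearGroup ι F :=
  QuotientGroup.mk' (Subgroup.center (Matrix.SpecialLinearGroup ι F)) (el i j a)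

theorem stein_proot : Stein (proot : ι → ι → F → Matrix.ProjectiveSpecialLinearGroup ι F) :=
  stein_el.map _

theorem closure_proot :
    Subgroup.closure {g | ∃ i j, i ≠ j ∧ ∃ a, g = proot (F := F) (ι := ι) i j a} = ⊤ := by
  rw [eq_top_iff, ← Subgroup.map_top_of_surjective
    (QuotientGroup.mk' (Subgroup.center (Matrix.SpecialLinearGroup ι F)))
    (QuotientGroup.mk'_surjective _), ← closure_el, MonoidHom.map_closure, Subgroup.closure_le]
  rintro _ ⟨_, ⟨i, j, h, a, rfl⟩, rfl⟩
  exact Subgroup.subset_closure ⟨i, j, h, a, rfl⟩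

variable [Fintype F]

/-- A stem extension of `PSL_n(q)`, `n ≥ 3`, has at most `|SL_n(q)|` elements. -/
theorem card_stem_le (hn : 3 ≤ Fintype.card ι)
    (h3 : Fintype.card ι = 3 → Fintype.card F ≠ 2 ∧ Fintype.card F ≠ 4)
    (h4 : Fintype.card ι = 4 → Fintype.card F ≠ 2)
    {E : Type*} [Group E] (σ : E →* Matrix.ProjectiveSpecialLinearGroup ι F)
    (hσ : Cfsg.IsStemExtension σ) :
    Nat.card E ≤ Nat.card (Matrix.SpecialLinearGroup ι F) := by
  let D : Setup E (Matrix.ProjectiveSpecialLinearGroup ι F) ι F :=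
    { π := σ
      p := proot
      surj := hσ.1
      central := hσ.2.1
      stein := stein_proot
      three := hn
      torus := fun i j k l s t hij hkl hs ht => by
        have := (T_el_comm (F := F) hij hkl hs ht).map
          (QuotientGroup.mk' (Subgroup.center (Matrix.SpecialLinearGroup ι F)))
        rwa [map_T, map_T] at this
      small3 := h3
      small4 := h4 }
  obtain ⟨hf, hc⟩ := card_le D.stein_X hn (D.gen_X closure_proot
    (commutator_eq_top_of_stem σ hσ (Linear.commutator_PSL_eq_top hn)))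
  haveI : Nonempty ι := Fintype.card_pos_iff.1 (by omega)
  have hq := Fintype.one_lt_card (α := F)
  refine Nat.le_of_mul_le_mul_left (hc.trans_eq ?_) (by omega : 0 < Fintype.card F - 1)
  rw [Linear.card_SL_mul, Linear.card_GL, Linear.prod_pow_sub_pow]

theorem rel_two : SL2Steinberg.Rel (G := Matrix.ProjectiveSpecialLinearGroup (Fin 2) F)
    (proot 0 1) (proot 1 0) := by
  refine ⟨?_, fun s t => stein_proot.add 0 1 (by decide) s t,
    fun s t => stein_proot.add 1 0 (by decide) s t, fun t v ht => ?_⟩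
  · rw [eq_top_iff, ← closure_proot, Subgroup.closure_le]
    rintro _ ⟨i, j, h, a, rfl⟩
    fin_cases i <;> fin_cases j <;>
      first
        | exact absurd rfl h
        | exact Subgroup.subset_closure (Or.inl ⟨a, rfl⟩)
        | exact Subgroup.subset_closure (Or.inr ⟨a, rfl⟩)
  · simp only [proot, ← map_mul, ← map_inv]
    congr 1
    rw [mul_inv_eq_iff_eq_mul, el_eq (show (0 : Fin 2) ≠ 1 by decide),
      el_eq (show (1 : Fin 2) ≠ 0 by decide), el_eq (show (0 : Fin 2) ≠ 1 by decide),
      el_eq (show (1 : Fin 2) ≠ 0 by decide)]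
    apply Linear.sl_ext_mulVec
    intro w l
    simp only [Matrix.SpecialLinearGroup.coe_mul, ← Matrix.mulVec_mulVec,
      Linear.transvection_smul_apply]
    fin_cases l <;> simp <;> field_simp <;> ring

theorem commutator_PSL_two (h : 4 ≤ Fintype.card F) :
    commutator (Matrix.ProjectiveSpecialLinearGroup (Fin 2) F) = ⊤ :=
  haveI : Group.IsPerfect (Matrix.SpecialLinearGroup (Fin 2) F) :=
    ⟨WordLaws.commutator_SL2 h⟩
  (Group.IsPerfect.instQuotientSubgroup
    (H := Subgroup.center (Matrix.SpecialLinearGroup (Fin 2) F))).commutator_eq_top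

/-- A stem extension of `PSL_2(q)`, `q ≥ 5`, `q ≠ 9`, has at most `|SL_2(q)|` elements. -/
theorem card_stem_le_two (h5 : 5 ≤ Fintype.card F) (h9 : Fintype.card F ≠ 9)
    {E : Type*} [Group E] (σ : E →* Matrix.ProjectiveSpecialLinearGroup (Fin 2) F)
    (hσ : Cfsg.IsStemExtension σ) :
    Nat.card E ≤ Nat.card (Matrix.SpecialLinearGroup (Fin 2) F) := by
  obtain ⟨hf, hc⟩ := card_le_two σ hσ.1 hσ.2.1
    (commutator_eq_top_of_stem σ hσ (commutator_PSL_two (by omega))) rel_two h5 h9
  refine hc.trans_eq ?_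
  rw [Linear.card_SL_two, mul_assoc, mul_comm (Fintype.card F - 1), ← Nat.sq_sub_sq, one_pow]

theorem isStemExtension_mk (h : commutator (Matrix.SpecialLinearGroup ι F) = ⊤) :
    Cfsg.IsStemExtension (QuotientGroup.mk' (Subgroup.center (Matrix.SpecialLinearGroup ι F))) :=
  ⟨QuotientGroup.mk'_surjective _, by rw [QuotientGroup.ker_mk'], by rw [h]; exact le_top⟩

/-- The Schur multiplier of `PSL_n(q)`. -/
theorem hasCyclicSchurMultiplier_PSL (n : ℕ) (hn : 2 ≤ n) (h2 : n = 2 → 5 ≤ Fintype.card F ∧
      Fintype.card F ≠ 9) (h3 : n = 3 → Fintype.card F ≠ 2 ∧ Fintype.card F ≠ 4)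
    (h4 : n = 4 → Fintype.card F ≠ 2) :
    Cfsg.HasCyclicSchurMultiplier (Matrix.ProjectiveSpecialLinearGroup (Fin n) F)
      (Nat.gcd n (Fintype.card F - 1)) := by
  classical
  haveI : Nonempty (Fin n) := ⟨⟨0, by omega⟩⟩
  have hperf : commutator (Matrix.SpecialLinearGroup (Fin n) F) = ⊤ := by
    rcases eq_or_lt_of_le hn with rfl | hn'
    · exact WordLaws.commutator_SL2 (by have := h2 rfl; omega)
    · exact Linear.commutator_SL_eq_top (by rw [Fintype.card_fin]; omega)
  have hker := QuotientGroup.ker_mk' (Subgroup.center (Matrix.SpecialLinearGroup (Fin n) F))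
  haveI : IsCyclic (Subgroup.center (Matrix.SpecialLinearGroup (Fin n) F)) :=
    (Matrix.SpecialLinearGroup.center_equiv_rootsOfUnity' (R := F)
      (Classical.arbitrary (Fin n))).isCyclic.2 inferInstance
  haveI : IsCyclic (QuotientGroup.mk' (Subgroup.center
      (Matrix.SpecialLinearGroup (Fin n) F))).ker := by rw [hker]; infer_instance
  refine hasCyclicSchurMultiplier_of_bound _ (isStemExtension_mk hperf)
    (by rw [hker, Linear.card_center_SL, Fintype.card_fin]) fun Δ _ _ τ hτ => ?_
  rcases eq_or_lt_of_le hn with rfl | hn'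
  · exact card_stem_le_two (h2 rfl).1 (h2 rfl).2 τ hτ
  · exact card_stem_le (by rw [Fintype.card_fin]; omega)
      (by rw [Fintype.card_fin]; exact h3) (by rw [Fintype.card_fin]; exact h4) τ hτ

end CfsgLib.MultPSL
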