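import Cfsg.Agent.MultPSL.Rels
import Cfsg.Agent.SL3Pres.Bound

/-!
# A group with the Steinberg relations of `SL_n(q)` has at most `|SL_n(q)|` elements

Induction on the index set: the cosets of the parabolic subgroup of a point are counted.
-/

set_option autoImplicit false
set_option linter.unusedSectionVars false
set_option linter.style.haveILetI false

namespace CfsgLib.MultPSL

open scoped commutatorElement Pointwise

variable {G ι F : Type*} [Group G] [Field F] [Fintype F] [DecidableEq ι]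

/-- The root elements with both indices in `S`. -/
def sub (x : ι → ι → F → G) (S : Finset ι) : Subgroup G :=
  Subgroup.closure {g | ∃ i ∈ S, ∃ j ∈ S, i ≠ j ∧ ∃ a, g = x i j a}

/-- The column of `m`. -/
def col (x : ι → ι → F → G) (S : Finset ι) (m : ι) : Subgroup G :=
  Subgroup.closure {g | ∃ i ∈ S, ∃ a, g = x i m a}

/-- The row of `m`. -/
def row (x : ι → ι → F → G) (S : Finset ι) (m : ι) : Subgroup G :=
  Subgroup.closure {g | ∃ i ∈ S, ∃ a, g = x m i a}

/-- The tori between `m` and `S`. -/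
def tor (x : ι → ι → F → G) (S : Finset ι) (m : ι) : Subgroup G :=
  Subgroup.closure {g | ∃ i ∈ S, ∃ a, a ≠ (0 : F) ∧ ∃ b, b ≠ (0 : F) ∧ g = W x i m a * W x i m b}

/-- The stabiliser of the point of `m`. -/
def par (x : ι → ι → F → G) (S : Finset ι) (m : ι) : Subgroup G :=
  row x S m ⊔ (sub x S ⊔ tor x S m)

variable {x : ι → ι → F → G}

theorem mem_sub {S : Finset ι} {i j : ι} (hi : i ∈ S) (hj : j ∈ S) (h : i ≠ j) (a : F) :
    x i j a ∈ sub x S :=
  Subgroup.subset_closure ⟨i, hi, j, hj, h, a, rfl⟩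

theorem mem_col {S : Finset ι} {i : ι} (hi : i ∈ S) (m : ι) (a : F) : x i m a ∈ col x S m :=
  Subgroup.subset_closure ⟨i, hi, a, rfl⟩

theorem mem_row {S : Finset ι} {i : ι} (hi : i ∈ S) (m : ι) (a : F) : x m i a ∈ row x S m :=
  Subgroup.subset_closure ⟨i, hi, a, rfl⟩

theorem mem_tor {S : Finset ι} {i : ι} (hi : i ∈ S) (m : ι) {a b : F} (ha : a ≠ 0) (hb : b ≠ 0) :
    W x i m a * W x i m b ∈ tor x S m :=
  Subgroup.subset_closure ⟨i, hi, a, ha, b, hb, rfl⟩

theorem W_mem {H : Subgroup G} {i j : ι} (h1 : ∀ a, x i j a ∈ H) (h2 : ∀ a, x j i a ∈ H) (t : F) :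
    W x i j t ∈ H :=
  mul_mem (mul_mem (h1 _) (h2 _)) (h1 _)

section

variable (R : Stein x)
include R

theorem W_neg {i j : ι} (h : i ≠ j) (t : F) : W x i j (-t) = (W x i j t)⁻¹ := by
  simp only [W, inv_neg, neg_neg, x_neg R h, x_neg R h.symm]
  group

/-- The image of `F` under a root map. -/
theorem card_range_le {i j : ι} (h : i ≠ j) :
    Finite (Subgroup.closure (Set.range (x i j))) ∧
      Nat.card (Subgroup.closure (Set.range (x i j))) ≤ Fintype.card F := by
  let φ : Multiplicative F →* G :=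
    { toFun := fun a => x i j a.toAdd
      map_one' := x_zero R h
      map_mul' := fun a b => R.add i j h _ _ }
  have e : Subgroup.closure (Set.range (x i j)) = φ.range := by
    refine le_antisymm ((Subgroup.closure_le _).2 ?_) ?_
    · rintro _ ⟨a, rfl⟩
      exact ⟨Multiplicative.ofAdd a, rfl⟩
    · rintro _ ⟨a, rfl⟩
      exact Subgroup.subset_closure ⟨a.toAdd, rfl⟩
  rw [e]
  haveI : Finite (Multiplicative F) := Finite.of_equiv F Multiplicative.ofAdd
  refine ⟨Finite.of_surjective φ.rangeRestrict φ.rangeRestrict_surjective, ?_⟩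
  have := Nat.card_le_card_of_surjective φ.rangeRestrict φ.rangeRestrict_surjective
  rwa [Nat.card_congr Multiplicative.toAdd, Nat.card_eq_fintype_card (α := F)] at this

theorem card_col_le (S : Finset ι) {m : ι} (hm : m ∉ S) :
    Finite (col x S m) ∧ Nat.card (col x S m) ≤ Fintype.card F ^ S.card := by
  induction S using Finset.induction with
  | empty =>
    have e : col x ∅ m = ⊥ := by simp [col]
    rw [e]
    exact ⟨inferInstance, by simp⟩
  | insert i S hi ih =>
    simp only [Finset.mem_insert, not_or] at hm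
    obtain ⟨hf, hc⟩ := ih hm.2
    obtain ⟨hf', hc'⟩ := card_range_le R (Ne.symm hm.1 : i ≠ m)
    have e : col x (insert i S) m = col x S m ⊔ Subgroup.closure (Set.range (x i m)) := by
      rw [col, col, ← Subgroup.closure_union]
      congr 1
      ext g
      simp only [Finset.mem_insert, Set.mem_ofPred_eq, Set.mem_union, Set.mem_range]
      constructor
      · rintro ⟨k, rfl | hk, a, rfl⟩
        · exact Or.inr ⟨a, rfl⟩
        · exact Or.inl ⟨k, hk, a, rfl⟩
      · rintro (⟨k, hk, a, rfl⟩ | ⟨a, rfl⟩)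
        · exact ⟨k, Or.inr hk, a, rfl⟩
        · exact ⟨i, Or.inl rfl, a, rfl⟩
    rw [e]
    obtain ⟨h1, h2⟩ := SL3Pres.card_sup_le_mul (col x S m) (Subgroup.closure (Set.range (x i m))) (by
      rw [Subgroup.closure_le]
      rintro _ ⟨a, rfl⟩
      haveI : Finite (Subgroup.closure {g | ∃ k ∈ S, ∃ b, g = x k m b}) := hf
      refine SL3Pres.mem_normalizer_of_finite _ ?_
      rintro _ ⟨k, hk, b, rfl⟩
      have hkm : k ≠ m := fun e => hm.2 (e ▸ hk)
      rw [← MulAut.conj_apply, conj_comm R (Ne.symm hm.1) hkm (Ne.symm hm.1) hkm.symm]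
      exact mem_col hk m b)
    refine ⟨h1, h2.trans ?_⟩
    rw [Finset.card_insert_of_notMem hi, pow_succ]
    exact Nat.mul_le_mul hc hc'

theorem card_row_le (S : Finset ι) {m : ι} (hm : m ∉ S) :
    Finite (row x S m) ∧ Nat.card (row x S m) ≤ Fintype.card F ^ S.card := by
  induction S using Finset.induction with
  | empty =>
    have e : row x ∅ m = ⊥ := by simp [row]
    rw [e]
    exact ⟨inferInstance, by simp⟩
  | insert i S hi ih =>
    simp only [Finset.mem_insert, not_or] at hm
    obtain ⟨hf, hc⟩ := ih hm.2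
    obtain ⟨hf', hc'⟩ := card_range_le R (hm.1 : m ≠ i)
    have e : row x (insert i S) m = row x S m ⊔ Subgroup.closure (Set.range (x m i)) := by
      rw [row, row, ← Subgroup.closure_union]
      congr 1
      ext g
      simp only [Finset.mem_insert, Set.mem_ofPred_eq, Set.mem_union, Set.mem_range]
      constructor
      · rintro ⟨k, rfl | hk, a, rfl⟩
        · exact Or.inr ⟨a, rfl⟩
        · exact Or.inl ⟨k, hk, a, rfl⟩
      · rintro (⟨k, hk, a, rfl⟩ | ⟨a, rfl⟩)
        · exact ⟨k, Or.inr hk, a, rfl⟩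
        · exact ⟨i, Or.inl rfl, a, rfl⟩
    rw [e]
    obtain ⟨h1, h2⟩ := SL3Pres.card_sup_le_mul (row x S m) (Subgroup.closure (Set.range (x m i))) (by
      rw [Subgroup.closure_le]
      rintro _ ⟨a, rfl⟩
      haveI : Finite (Subgroup.closure {g | ∃ k ∈ S, ∃ b, g = x m k b}) := hf
      refine SL3Pres.mem_normalizer_of_finite _ ?_
      rintro _ ⟨k, hk, b, rfl⟩
      have hkm : m ≠ k := fun e => hm.2 (e ▸ hk)
      rw [← MulAut.conj_apply, conj_comm R hm.1 hkm hkm (Ne.symm hm.1)]
      exact mem_row hk m b)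
    refine ⟨h1, h2.trans ?_⟩
    rw [Finset.card_insert_of_notMem hi, pow_succ]
    exact Nat.mul_le_mul hc hc'

variable (hthird : ∀ i j : ι, ∃ k, k ≠ i ∧ k ≠ j)
include hthird

/-- The torus of one pair of roots has at most `q - 1` elements. -/
theorem card_tor_le {i m : ι} (h : i ≠ m) :
    Finite (tor x {i} m) ∧ Nat.card (tor x {i} m) ≤ Fintype.card F - 1 := by
  classical
  set P := Subgroup.closure (Set.range (x i m) ∪ Set.range (x m i)) with hP
  have h1 : ∀ a, x i m a ∈ P := fun a => Subgroup.subset_closure (Or.inl ⟨a, rfl⟩)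
  have h2 : ∀ a, x m i a ∈ P := fun a => Subgroup.subset_closure (Or.inr ⟨a, rfl⟩)
  let X : F → P := fun a => ⟨x i m a, h1 a⟩
  let Y : F → P := fun a => ⟨x m i a, h2 a⟩
  have hR : SL2Steinberg.Rel X Y := by
    refine ⟨?_, fun s t => Subtype.ext (R.add i m h s t),
      fun s t => Subtype.ext (R.add m i h.symm s t), fun t v ht => Subtype.ext ?_⟩
    · rw [eq_top_iff, ← Subgroup.map_le_map_iff_of_injective P.subtype_injective,
        MonoidHom.map_closure, ← MonoidHom.range_eq_map, P.range_subtype]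
      refine (le_of_eq hP).trans ((Subgroup.closure_le _).2 ?_)
      rintro g (⟨a, rfl⟩ | ⟨a, rfl⟩)
      · exact Subgroup.subset_closure ⟨X a, Or.inl ⟨a, rfl⟩, rfl⟩
      · exact Subgroup.subset_closure ⟨Y a, Or.inr ⟨a, rfl⟩, rfl⟩
    · exact W_ij R hthird h ht v
  obtain ⟨ω, hω, hpow, hall⟩ := SL2Steinberg.exists_torus_gen hR
  set η := (SL2Steinberg.H X Y (ω : F) : P).1 with hη
  have hHT : ∀ t, ((SL2Steinberg.H X Y t : P) : G) = T x i m t := fun t => rfl
  have hηpow : η ^ (Fintype.card F - 1) = 1 := by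
    rw [hη, ← Subgroup.coe_pow, hpow, Subgroup.coe_one]
  have hgen : ∀ t : F, t ≠ 0 → T x i m t ∈ Subgroup.zpowers η := by
    intro t ht
    have htop : Subgroup.zpowers ω = ⊤ := Subgroup.eq_top_of_card_eq _
      (by rw [Nat.card_zpowers, hω, Nat.card_units, Nat.card_eq_fintype_card])
    obtain ⟨k, hk⟩ : ∃ k : ℕ, ω ^ k = Units.mk0 t ht :=
      mem_powers_iff_mem_zpowers.2 (htop ▸ Subgroup.mem_top _)
    have e : t = (ω : F) ^ k := by rw [← Units.val_pow_eq_pow_val, hk, Units.val_mk0]
    rw [e, ← hHT, hall, Subgroup.coe_pow]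
    exact Subgroup.pow_mem _ (Subgroup.mem_zpowers η) k
  have hle : tor x {i} m ≤ Subgroup.zpowers η := by
    rw [tor, Subgroup.closure_le]
    rintro _ ⟨k, hk, a, ha, b, hb, rfl⟩
    obtain rfl := Finset.mem_singleton.1 hk
    have e : W x k m a * W x k m b = T x k m a * (T x k m (-b))⁻¹ := by
      simp only [T, W_neg R h]
      group
    rw [e]
    exact mul_mem (hgen a ha) (inv_mem (hgen _ (neg_ne_zero.2 hb)))
  have hq := Fintype.one_lt_card (α := F)
  have hof : IsOfFinOrder η := isOfFinOrder_iff_pow_eq_one.2 ⟨_, by omega, hηpow⟩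
  haveI : Finite (Subgroup.zpowers η) := hof.finite_zpowers.to_subtype
  refine ⟨Finite.of_injective _ (Subgroup.inclusion_injective hle), ?_⟩
  refine (Subgroup.card_le_of_le hle).trans ?_
  rw [Nat.card_zpowers]
  exact orderOf_le_of_pow_eq_one (by omega) hηpow

variable {S : Finset ι} {m : ι} (hm : m ∉ S)
include hm

theorem sub_normalizes_col [Finite (col x S m)] :
    sub x S ≤ Subgroup.normalizer (col x S m : Set G) := by
  rw [sub, Subgroup.closure_le]
  rintro _ ⟨i, hi, j, hj, hij, a, rfl⟩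
  haveI : Finite (Subgroup.closure {g | ∃ k ∈ S, ∃ b, g = x k m b}) := ‹_›
  refine SL3Pres.mem_normalizer_of_finite _ ?_
  rintro _ ⟨k, hk, b, rfl⟩
  rw [← MulAut.conj_apply]
  have him : i ≠ m := fun e => hm (e ▸ hi)
  rcases eq_or_ne k j with rfl | hkj
  · rw [conj_left R hij (ne_of_mem_of_not_mem hk hm) him]
    exact mul_mem (mem_col hi m _) (mem_col hk m _)
  · rw [conj_comm R hij (ne_of_mem_of_not_mem hk hm) him hkj.symm]
    exact mem_col hk m b

theorem sub_normalizes_row [Finite (row x S m)] :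
    sub x S ≤ Subgroup.normalizer (row x S m : Set G) := by
  rw [sub, Subgroup.closure_le]
  rintro _ ⟨i, hi, j, hj, hij, a, rfl⟩
  haveI : Finite (Subgroup.closure {g | ∃ k ∈ S, ∃ b, g = x m k b}) := ‹_›
  refine SL3Pres.mem_normalizer_of_finite _ ?_
  rintro _ ⟨k, hk, b, rfl⟩
  rw [← MulAut.conj_apply]
  have hjm : m ≠ j := fun e => hm (e ▸ hj)
  rcases eq_or_ne k i with rfl | hki
  · rw [conj_right R (ne_of_mem_of_not_mem hk hm).symm hij hjm]
    exact mul_mem (mem_row hj m _) (mem_row hk m _)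
  · rw [conj_comm R hij (ne_of_mem_of_not_mem hk hm).symm hki.symm hjm.symm]
    exact mem_row hk m b

variable {o : ι} (ho : o ∈ S)
include ho

theorem tor_le : tor x S m ≤ sub x S ⊔ tor x {o} m := by
  have hom : o ≠ m := fun e => hm (e ▸ ho)
  rw [tor, Subgroup.closure_le]
  rintro _ ⟨i, hi, a, ha, b, hb, rfl⟩
  rcases eq_or_ne i o with rfl | hio
  · exact Subgroup.mem_sup_right (mem_tor (Finset.mem_singleton_self i) m ha hb)
  have him : i ≠ m := fun e => hm (e ▸ hi)
  set g := W x o i (-1) with hg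
  have hgm : g ∈ sub x S :=
    W_mem (fun a => mem_sub ho hi hio.symm a) (fun a => mem_sub hi ho hio a) _
  have hW : ∀ a, MulAut.conj g (W x o m a) = W x i m a := by
    intro a
    show MulAut.conj g (x o m a * x m o (-a⁻¹) * x o m a) = _
    rw [map_mul, map_mul, hg, W_ik R hio.symm hom.symm him.symm (neg_ne_zero.2 one_ne_zero),
      W_ki R hio.symm hom.symm him.symm (neg_ne_zero.2 one_ne_zero)]
    simp [W]
  rw [SetLike.mem_coe, ← hW a, ← hW b, ← map_mul, MulAut.conj_apply]
  exact mul_mem (mul_mem (Subgroup.mem_sup_left hgm)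
    (Subgroup.mem_sup_right (mem_tor (Finset.mem_singleton_self o) m ha hb)))
    (inv_mem (Subgroup.mem_sup_left hgm))

theorem tor_normalizes_sub [Finite (sub x S)] :
    tor x {o} m ≤ Subgroup.normalizer (sub x S : Set G) := by
  have hom : o ≠ m := fun e => hm (e ▸ ho)
  rw [tor, Subgroup.closure_le]
  rintro _ ⟨_, hk, a, ha, b, hb, rfl⟩
  rw [Finset.mem_singleton.1 hk]
  haveI : Finite (Subgroup.closure {g | ∃ i ∈ S, ∃ j ∈ S, i ≠ j ∧ ∃ c, g = x i j c}) := ‹_›
  refine SL3Pres.mem_normalizer_of_finite _ ?_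
  rintro _ ⟨i, hi, j, hj, hij, c, rfl⟩
  rw [← MulAut.conj_apply, map_mul, MulAut.mul_apply]
  have him : i ≠ m := fun e => hm (e ▸ hi)
  have hjm : j ≠ m := fun e => hm (e ▸ hj)
  rcases eq_or_ne i o with rfl | hio
  · rw [W_ik R hom hij.symm hjm hb, W_jk R hom hij.symm hjm ha]
    exact mem_sub hi hj hij _
  rcases eq_or_ne j o with rfl | hjo
  · rw [W_ki R hom hio him hb, W_kj R hom hio him ha]
    exact mem_sub hi hj hij _
  · rw [conj_root R hom hio him hjo hjm hij, conj_root R hom hio him hjo hjm hij]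
    exact mem_sub hi hj hij _

theorem tor_normalizes_row [Finite (row x S m)] :
    tor x {o} m ≤ Subgroup.normalizer (row x S m : Set G) := by
  have hom : o ≠ m := fun e => hm (e ▸ ho)
  rw [tor, Subgroup.closure_le]
  rintro _ ⟨_, hk, a, ha, b, hb, rfl⟩
  rw [Finset.mem_singleton.1 hk]
  haveI : Finite (Subgroup.closure {g | ∃ i ∈ S, ∃ c, g = x m i c}) := ‹_›
  refine SL3Pres.mem_normalizer_of_finite _ ?_
  rintro _ ⟨i, hi, c, rfl⟩
  rw [← MulAut.conj_apply, map_mul, MulAut.mul_apply]
  have him : i ≠ m := fun e => hm (e ▸ hi)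
  rcases eq_or_ne i o with rfl | hio
  · rw [W_ji R hthird hom hb, W_ij R hthird hom ha]
    exact mem_row hi m _
  · rw [W_jk R hom hio him hb, W_ik R hom hio him ha]
    exact mem_row hi m _

theorem card_par_le [Finite (sub x S)] :
    Finite (par x S m) ∧ Nat.card (par x S m) ≤
      Fintype.card F ^ S.card * (Nat.card (sub x S) * (Fintype.card F - 1)) := by
  obtain ⟨hfR, hcR⟩ := card_row_le R S hm
  obtain ⟨hfT, hcT⟩ := card_tor_le R hthird (fun e => hm (e ▸ ho) : o ≠ m)
  obtain ⟨hf1, hc1⟩ :=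
    SL3Pres.card_sup_le_mul (sub x S) (tor x {o} m) (tor_normalizes_sub R hthird hm ho)
  obtain ⟨hf2, hc2⟩ := SL3Pres.card_sup_le_mul (row x S m) (sub x S ⊔ tor x {o} m)
    (sup_le (sub_normalizes_row R hthird hm) (tor_normalizes_row R hthird hm ho))
  have hle : par x S m ≤ row x S m ⊔ (sub x S ⊔ tor x {o} m) :=
    sup_le_sup_left (sup_le le_sup_left (tor_le R hthird hm ho)) _
  refine ⟨Finite.of_injective _ (Subgroup.inclusion_injective hle),
    (Subgroup.card_le_of_le hle).trans (hc2.trans (Nat.mul_le_mul hcR (hc1.trans ?_)))⟩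
  exact Nat.mul_le_mul_left _ hcT

theorem row_mem_par {i : ι} (hi : i ∈ S) (a : F) : x m i a ∈ par x S m :=
  Subgroup.mem_sup_left (mem_row hi m a)

theorem sub_le_par : sub x S ≤ par x S m := le_sup_left.trans le_sup_right

theorem tor_mem_par {a b : F} (ha : a ≠ 0) (hb : b ≠ 0) :
    W x o m a * W x o m b ∈ par x S m :=
  Subgroup.mem_sup_right (Subgroup.mem_sup_right (mem_tor ho m ha hb))

/-- The inverse of `w = w_om(1)` carries the smaller parabolic subgroup into the bigger one. -/
theorem conj_par_le : (par x (S.erase o) o).map (MulAut.conj (W x o m (-1))).toMonoidHom ≤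
    par x S m := by
  have hom : o ≠ m := fun e => hm (e ▸ ho)
  have hm1 : (-1 : F) ≠ 0 := neg_ne_zero.2 one_ne_zero
  rw [par, Subgroup.map_sup, Subgroup.map_sup]
  refine sup_le ?_ (sup_le ?_ ?_)
  · rw [row, MonoidHom.map_closure, Subgroup.closure_le]
    rintro _ ⟨_, ⟨i, hi, a, rfl⟩, rfl⟩
    obtain ⟨hio, hi⟩ := Finset.mem_erase.1 hi
    rw [MulEquiv.toMonoidHom_eq_coe, MonoidHom.coe_coe,
      W_ik R hom hio (ne_of_mem_of_not_mem hi hm) hm1]
    exact row_mem_par R hthird hm ho hi _
  · rw [sub, MonoidHom.map_closure, Subgroup.closure_le]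
    rintro _ ⟨_, ⟨i, hi, j, hj, hij, a, rfl⟩, rfl⟩
    obtain ⟨hio, hi⟩ := Finset.mem_erase.1 hi
    obtain ⟨hjo, hj⟩ := Finset.mem_erase.1 hj
    rw [MulEquiv.toMonoidHom_eq_coe, MonoidHom.coe_coe,
      conj_root R hom hio (ne_of_mem_of_not_mem hi hm) hjo (ne_of_mem_of_not_mem hj hm) hij]
    exact sub_le_par R hthird hm ho (mem_sub hi hj hij a)
  · rw [tor, MonoidHom.map_closure, Subgroup.closure_le]
    rintro _ ⟨_, ⟨i, hi, a, ha, b, hb, rfl⟩, rfl⟩
    obtain ⟨hio, hi⟩ := Finset.mem_erase.1 hi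
    have him : i ≠ m := fun e => hm (e ▸ hi)
    have hW : ∀ c, MulAut.conj (W x o m (-1)) (W x i o c) = W x i m c := by
      intro c
      show MulAut.conj (W x o m (-1)) (x i o c * x o i (-c⁻¹) * x i o c) = _
      rw [map_mul, map_mul, W_ki R hom hio him hm1, W_ik R hom hio him hm1]
      simp [W]
    rw [MulEquiv.toMonoidHom_eq_coe, MonoidHom.coe_coe, map_mul, hW, hW]
    exact Subgroup.mem_sup_right (Subgroup.mem_sup_right (mem_tor hi m ha hb))

set_option maxHeartbeats 800000 in
/-- The point stabiliser has at most `(q^s - 1) / (q - 1) + q^s` cosets. -/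
theorem exists_reps (R₁ : Finset G) (hR₁ : ∀ g ∈ sub x S, ∃ r ∈ R₁, r⁻¹ * g ∈ par x (S.erase o) o) :
    ∃ R₂ : Finset G, R₂.card ≤ Fintype.card F ^ S.card + R₁.card ∧
      ∀ g ∈ sub x (insert m S), ∃ r ∈ R₂, r⁻¹ * g ∈ par x S m := by
  classical
  have hom : o ≠ m := fun e => hm (e ▸ ho)
  have hm1 : (-1 : F) ≠ 0 := neg_ne_zero.2 one_ne_zero
  obtain ⟨hfU, hcU⟩ := card_col_le R S hm
  set Q := par x S m with hQ
  set w := W x o m (1 : F) with hwdef
  have hwi : w⁻¹ = W x o m (-1) := (W_neg R hom 1).symm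
  let base : G ⧸ Q := QuotientGroup.mk 1
  have hfix : ∀ g ∈ Q, g • base = base := fun g hg => by
    show QuotientGroup.mk (g * 1) = QuotientGroup.mk 1
    rw [QuotientGroup.eq, mul_one, mul_one]
    exact inv_mem hg
  let PU : Set (G ⧸ Q) := {p | ∃ u ∈ col x S m, u • base = p}
  let PL : Set (G ⧸ Q) := {p | ∃ l ∈ sub x S, (l * w) • base = p}
  have hPU : PU ⊆ Set.range (fun u : col x S m => (u : G) • base) := by
    rintro p ⟨u, hu, rfl⟩
    exact ⟨⟨u, hu⟩, rfl⟩
  have hPL : PL ⊆ (fun r => (r * w) • base) '' (R₁ : Set G) := by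
    rintro p ⟨l, hl, rfl⟩
    obtain ⟨r, hr, hrl⟩ := hR₁ l hl
    refine ⟨r, hr, ?_⟩
    have hq : w⁻¹ * (r⁻¹ * l) * w ∈ Q := by
      have := conj_par_le R hthird hm ho (Subgroup.mem_map_of_mem _ hrl)
      rwa [MulEquiv.toMonoidHom_eq_coe, MonoidHom.coe_coe, MulAut.conj_apply, ← hwi, inv_inv] at this
    rw [show l * w = r * w * (w⁻¹ * (r⁻¹ * l) * w) by group, mul_smul _ (w⁻¹ * _ * w), hfix _ hq]
  have hfPU : PU.Finite := (Set.finite_range _).subset hPU
  have hfPL : PL.Finite := (R₁.finite_toSet.image _).subset hPL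
  have hfP : (PU ∪ PL).Finite := hfPU.union hfPL
  set St := MulAction.stabilizer G (PU ∪ PL) with hSt
  have hStab : ∀ g, (∀ p ∈ PU ∪ PL, g • p ∈ PU ∪ PL) → g ∈ St := fun g hg =>
    (MulAction.mem_stabilizer_set' hfP).2 hg
  have hstP : ∀ g ∈ St, ∀ p ∈ PU ∪ PL, g • p ∈ PU ∪ PL := fun g hg p hp =>
    (MulAction.mem_stabilizer_set' hfP).1 hg hp
  clear_value St
  clear hSt
  -- `L` normalises `U`
  have hLU : ∀ l ∈ sub x S, ∀ u ∈ col x S m, l * u * l⁻¹ ∈ col x S m := fun l hl u hu =>
    (Subgroup.mem_normalizer_iff.1 (sub_normalizes_col R hthird hm hl) u).1 hu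
  have hwU : ∀ u ∈ col x S m, w⁻¹ * u * w ∈ Q := by
    intro u hu
    have hle : (col x S m).map (MulAut.conj w⁻¹).toMonoidHom ≤ Q := by
      rw [col, MonoidHom.map_closure, Subgroup.closure_le, hwi]
      rintro _ ⟨_, ⟨i, hi, a, rfl⟩, rfl⟩
      rw [MulEquiv.toMonoidHom_eq_coe, MonoidHom.coe_coe]
      rcases eq_or_ne i o with rfl | hio
      · rw [W_ij R hthird hom hm1]
        exact row_mem_par R hthird hm ho hi _
      · rw [W_kj R hom hio (ne_of_mem_of_not_mem hi hm) hm1]
        exact sub_le_par R hthird hm ho (mem_sub hi ho hio _)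
    have := hle (Subgroup.mem_map_of_mem _ hu)
    rwa [MulEquiv.toMonoidHom_eq_coe, MonoidHom.coe_coe, MulAut.conj_apply, inv_inv] at this
  have hUSt : col x S m ≤ St := by
    intro g hg
    refine hStab g ?_
    rintro p (⟨u, hu, rfl⟩ | ⟨l, hl, rfl⟩)
    · exact Or.inl ⟨g * u, mul_mem hg hu, mul_smul _ _ _⟩
    · refine Or.inr ⟨l, hl, ?_⟩
      rw [← mul_smul g (l * w), show g * (l * w) = l * w * (w⁻¹ * (l⁻¹ * g * l⁻¹⁻¹) * w) by group,
        mul_smul (l * w), hfix _ (hwU _ (hLU _ (inv_mem hl) g hg))]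
  have hLSt : sub x S ≤ St := by
    intro g hg
    refine hStab g ?_
    rintro p (⟨u, hu, rfl⟩ | ⟨l, hl, rfl⟩)
    · refine Or.inl ⟨g * u * g⁻¹, hLU g hg u hu, ?_⟩
      rw [mul_smul (g * u), hfix _ (inv_mem (sub_le_par R hthird hm ho hg)), mul_smul]
    · exact Or.inr ⟨g * l, mul_mem hg hl, by rw [mul_assoc, mul_smul]⟩
  -- rank one
  have hrk : ∀ t a : F, t ≠ 0 → a ≠ 0 →
      W x o m t • (x o m a • base) = x o m (-(t ^ 2 / a)) • base := by
    intro t a ht ha
    set c := -(t ^ 2 / a) with hc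
    have e : MulAut.conj (W x o m t * W x o m a) (x o m (-a)) = x o m c := by
      rw [map_mul, MulAut.mul_apply, W_ij R hthird hom ha, W_ji R hthird hom ht]
      congr 1
      rw [hc]
      field_simp
    have e2 : W x o m t * x o m a =
        x o m c * ((W x o m t * W x o m a) * x m o a⁻¹) := by
      rw [← e, MulAut.conj_apply]
      conv_rhs => rw [W]
      simp only [W, x_neg R hom, x_neg R hom.symm]
      group
    rw [← mul_smul, e2, mul_smul, hfix _ (mul_mem (tor_mem_par R hthird hm ho ht ha)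
      (row_mem_par R hthird hm ho ho _))]
  have hwx : ∀ a, (∃ c, w • (x o m a • base) = x o m c • base) ∨ w • (x o m a • base) = w • base := by
    intro a
    rcases eq_or_ne a 0 with rfl | ha
    · right
      rw [x_zero R hom, one_smul]
    · left
      exact ⟨_, hrk 1 a one_ne_zero ha⟩
  have hy : ∀ c a, x m o c • (x o m a • base) ∈ PU ∪ PL := by
    intro c a
    rcases eq_or_ne a 0 with rfl | ha
    · refine Or.inl ⟨1, one_mem _, ?_⟩
      rw [x_zero R hom, one_smul, hfix _ (row_mem_par R hthird hm ho ho c)]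
    have e : x m o c = w * x o m (-c) * w⁻¹ := by
      rw [← MulAut.conj_apply, hwdef, W_ij R hthird hom one_ne_zero]
      simp
    rw [e, mul_smul, hwi, hrk (-1) a hm1 ha, ← mul_smul, mul_assoc, ← R.add o m hom, mul_smul]
    rcases hwx (-c + -((-1) ^ 2 / a)) with ⟨d, hd⟩ | hd
    · exact Or.inl ⟨_, mem_col ho m d, hd.symm⟩
    · exact Or.inr ⟨1, one_mem _, by rw [hd, one_mul]⟩
  have hVSt : ∀ c, x m o c ∈ St := by
    intro c
    refine hStab _ ?_
    rintro p (⟨u, hu, rfl⟩ | ⟨l, hl, rfl⟩)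
    · obtain ⟨a, u', hu', rfl⟩ : ∃ a, ∃ u' ∈ col x (S.erase o) m, u = u' * x o m a := by
        induction hu using Subgroup.closure_induction with
        | mem g hg =>
          obtain ⟨i, hi, b, rfl⟩ := hg
          rcases eq_or_ne i o with rfl | hio
          · exact ⟨b, 1, one_mem _, (one_mul _).symm⟩
          · exact ⟨0, _, mem_col (Finset.mem_erase.2 ⟨hio, hi⟩) m b,
              by rw [x_zero R hom, mul_one]⟩
        | one => exact ⟨0, 1, one_mem _, by rw [x_zero R hom, one_mul]⟩
        | mul u v _ _ hu hv =>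
          obtain ⟨a, u', hu', rfl⟩ := hu
          obtain ⟨b, v', hv', rfl⟩ := hv
          refine ⟨a + b, u' * v', mul_mem hu' hv', ?_⟩
          have hc : col x (S.erase o) m ≤ Subgroup.centralizer {x o m a} := by
            rw [col, Subgroup.closure_le]
            rintro _ ⟨k, hk, d, rfl⟩
            have hkm : k ≠ m := fun e => hm (e ▸ (Finset.mem_erase.1 hk).2)
            rw [SetLike.mem_coe, Subgroup.mem_centralizer_singleton_iff]
            exact (R.comm k m o m hkm hom hkm hom.symm d a).eq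
          rw [R.add o m hom]
          have := Subgroup.mem_centralizer_singleton_iff.1 (hc hv')
          rw [mul_assoc u', ← mul_assoc (x o m a) v', ← this]
          group
        | inv u _ hu =>
          obtain ⟨a, u', hu', rfl⟩ := hu
          have hc : col x (S.erase o) m ≤ Subgroup.centralizer {x o m a} := by
            rw [col, Subgroup.closure_le]
            rintro _ ⟨k, hk, d, rfl⟩
            have hkm : k ≠ m := fun e => hm (e ▸ (Finset.mem_erase.1 hk).2)
            rw [SetLike.mem_coe, Subgroup.mem_centralizer_singleton_iff]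
            exact (R.comm k m o m hkm hom hkm hom.symm d a).eq
          refine ⟨-a, u'⁻¹, inv_mem hu', ?_⟩
          rw [x_neg R hom, mul_inv_rev]
          have h' : Commute u' (x o m a) := Subgroup.mem_centralizer_singleton_iff.1 (hc hu')
          exact (h'.inv_inv.eq).symm
      have hle : (col x (S.erase o) m).map (MulAut.conj (x m o c)).toMonoidHom ≤ St := by
        rw [col, MonoidHom.map_closure, Subgroup.closure_le]
        rintro _ ⟨_, ⟨k, hk, b, rfl⟩, rfl⟩
        obtain ⟨hko, hk⟩ := Finset.mem_erase.1 hk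
        have hkm : k ≠ m := fun e => hm (e ▸ hk)
        rw [MulEquiv.toMonoidHom_eq_coe, MonoidHom.coe_coe, conj_right R hkm hom.symm hko]
        exact mul_mem (hLSt (mem_sub hk ho hko _)) (hUSt (mem_col hk m b))
      have h1 := hle (Subgroup.mem_map_of_mem _ hu')
      rw [MulEquiv.toMonoidHom_eq_coe, MonoidHom.coe_coe, MulAut.conj_apply] at h1
      rw [← mul_smul, show x m o c * (u' * x o m a) =
        (x m o c * u' * (x m o c)⁻¹) * x m o c * x o m a by group, mul_smul, mul_smul]
      exact hstP _ h1 _ (hy c a)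
    · -- the column of `w`
      have hv : l⁻¹ * x m o c * l ∈ row x S m := by
        have hfR := (card_row_le R S hm).1
        have := (Subgroup.mem_normalizer_iff.1 (sub_normalizes_row R hthird hm (inv_mem hl)) _).1
          (mem_row ho m c)
        rwa [inv_inv] at this
      obtain ⟨b, v', hv', e⟩ : ∃ b, ∃ v' ∈ row x (S.erase o) m,
          l⁻¹ * x m o c * l = x m o b * v' := by
        generalize l⁻¹ * x m o c * l = v at hv ⊢
        induction hv using Subgroup.closure_induction with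
        | mem g hg =>
          obtain ⟨i, hi, b, rfl⟩ := hg
          rcases eq_or_ne i o with rfl | hio
          · exact ⟨b, 1, one_mem _, (mul_one _).symm⟩
          · exact ⟨0, _, mem_row (Finset.mem_erase.2 ⟨hio, hi⟩) m b,
              by rw [x_zero R hom.symm, one_mul]⟩
        | one => exact ⟨0, 1, one_mem _, by rw [x_zero R hom.symm, one_mul]⟩
        | mul u v _ _ hu hv =>
          obtain ⟨a, u', hu', rfl⟩ := hu
          obtain ⟨b, v', hv', rfl⟩ := hv
          refine ⟨a + b, u' * v', mul_mem hu' hv', ?_⟩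
          have hc : row x (S.erase o) m ≤ Subgroup.centralizer {x m o b} := by
            rw [row, Subgroup.closure_le]
            rintro _ ⟨k, hk, d, rfl⟩
            have hkm : m ≠ k := fun e => hm (e ▸ (Finset.mem_erase.1 hk).2)
            rw [SetLike.mem_coe, Subgroup.mem_centralizer_singleton_iff]
            exact (R.comm m k m o hkm hom.symm hom.symm hkm.symm d b).eq
          rw [R.add m o hom.symm]
          have := Subgroup.mem_centralizer_singleton_iff.1 (hc hu')
          rw [mul_assoc (x m o a), ← mul_assoc u', this]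
          group
        | inv u _ hu =>
          obtain ⟨a, u', hu', rfl⟩ := hu
          have hc : row x (S.erase o) m ≤ Subgroup.centralizer {x m o a} := by
            rw [row, Subgroup.closure_le]
            rintro _ ⟨k, hk, d, rfl⟩
            have hkm : m ≠ k := fun e => hm (e ▸ (Finset.mem_erase.1 hk).2)
            rw [SetLike.mem_coe, Subgroup.mem_centralizer_singleton_iff]
            exact (R.comm m k m o hkm hom.symm hom.symm hkm.symm d a).eq
          refine ⟨-a, u'⁻¹, inv_mem hu', ?_⟩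
          rw [x_neg R hom.symm, mul_inv_rev]
          have h' : Commute u' (x m o a) := Subgroup.mem_centralizer_singleton_iff.1 (hc hu')
          exact h'.inv_inv.eq
      have hv'w : w⁻¹ * v' * w ∈ Q := by
        have hle : (row x (S.erase o) m).map (MulAut.conj w⁻¹).toMonoidHom ≤ Q := by
          rw [row, MonoidHom.map_closure, Subgroup.closure_le, hwi]
          rintro _ ⟨_, ⟨k, hk, d, rfl⟩, rfl⟩
          obtain ⟨hko, hk⟩ := Finset.mem_erase.1 hk
          rw [MulEquiv.toMonoidHom_eq_coe, MonoidHom.coe_coe,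
            W_jk R hom hko (ne_of_mem_of_not_mem hk hm) hm1]
          exact sub_le_par R hthird hm ho (mem_sub ho hk hko.symm _)
        have := hle (Subgroup.mem_map_of_mem _ hv')
        rwa [MulEquiv.toMonoidHom_eq_coe, MonoidHom.coe_coe, MulAut.conj_apply, inv_inv] at this
      have hconj : x m o b = w * x o m (-b) * w⁻¹ := by
        rw [← MulAut.conj_apply, hwdef, W_ij R hthird hom one_ne_zero]
        simp
      rw [← mul_smul, show x m o c * (l * w) = l * (w * x o m (-b)) * (w⁻¹ * v' * w) by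
          rw [show x m o c * (l * w) = l * (l⁻¹ * x m o c * l) * w by group, e, hconj]
          group,
        mul_smul _ (w⁻¹ * _ * w), hfix _ hv'w, mul_smul, mul_smul]
      refine hstP l (hLSt hl) _ ?_
      rcases hwx (-b) with ⟨d, hd⟩ | hd
      · exact Or.inl ⟨_, mem_col ho m d, hd.symm⟩
      · exact Or.inr ⟨1, one_mem _, by rw [hd, one_mul]⟩
  have hsub : sub x (insert m S) ≤ St := by
    rw [sub, Subgroup.closure_le]
    rintro _ ⟨i, hi, j, hj, hij, a, rfl⟩
    rw [SetLike.mem_coe]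
    rcases Finset.mem_insert.1 hi with rfl | hi
    · have hj' : j ∈ S := (Finset.mem_insert.1 hj).resolve_left hij.symm
      rcases eq_or_ne j o with rfl | hjo
      · exact hVSt a
      · have e := R.rel i o j hom.symm hjo.symm hij a 1
        rw [mul_one] at e
        rw [← e, commutatorElement_def]
        have h1 := hVSt a
        have h2 := hLSt (mem_sub ho hj' hjo.symm (1 : F))
        exact mul_mem (mul_mem (mul_mem h1 h2) (inv_mem h1)) (inv_mem h2)
    · rcases Finset.mem_insert.1 hj with e | hj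
      · rw [e]
        have hu : x i m a ∈ col x S m := mem_col hi m a
        exact hUSt hu
      · have hl : x i j a ∈ sub x S := mem_sub hi hj hij a
        exact hLSt hl
  refine ⟨hfP.toFinset.image Quotient.out, ?_, fun g hg => ?_⟩
  · refine Finset.card_image_le.trans ?_
    rw [← Set.ncard_eq_toFinset_card _ hfP]
    refine (Set.ncard_union_le _ _).trans (Nat.add_le_add ?_ ?_)
    · refine (Set.ncard_le_ncard hPU (Set.finite_range _)).trans ?_
      rw [← Set.image_univ]
      refine (Set.ncard_image_le Set.finite_univ).trans ?_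
      rw [Set.ncard_univ]
      exact hcU
    · refine (Set.ncard_le_ncard hPL (R₁.finite_toSet.image _)).trans ?_
      exact (Set.ncard_image_le R₁.finite_toSet).trans (Set.ncard_coe_finset R₁).le
  · refine ⟨(g • base).out, Finset.mem_image.2 ⟨_, hfP.mem_toFinset.2
      (hstP g (hsub hg) base (Or.inl ⟨1, one_mem _, one_smul _ _⟩)), rfl⟩, ?_⟩
    rw [← QuotientGroup.eq, QuotientGroup.out_eq']
    show QuotientGroup.mk (g * 1) = _
    rw [mul_one]

end

/-- The number of points of the projective space of dimension `n - 1`. -/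
def pts (q n : ℕ) : ℕ := ∑ k ∈ Finset.range n, q ^ k

/-- The bound. -/
def bnd (q : ℕ) : ℕ → ℕ
  | 0 => 1
  | 1 => 1
  | n + 2 => pts q (n + 2) * (q ^ (n + 1) * (bnd q (n + 1) * (q - 1)))

theorem pts_mul (q n : ℕ) (hq : 1 ≤ q) : pts q n * (q - 1) = q ^ n - 1 := by
  induction n with
  | zero => simp [pts]
  | succ n ih =>
    have h1 : 1 ≤ q ^ n := Nat.one_le_pow _ _ hq
    rw [pts, Finset.sum_range_succ, add_mul, ← pts, ih, pow_succ]
    obtain ⟨r, rfl⟩ := Nat.exists_eq_add_of_le hq
    rw [Nat.add_sub_cancel_left, mul_add, mul_one]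
    omega

theorem bnd_mul (q n : ℕ) (hq : 1 ≤ q) : bnd q (n + 1) * (q - 1) =
    q ^ ((n + 1) * n / 2) * ∏ i ∈ Finset.range (n + 1), (q ^ (i + 1) - 1) := by
  induction n with
  | zero => simp [bnd]
  | succ n ih =>
    have e : (n + 1 + 1) * (n + 1) / 2 = (n + 1) * n / 2 + (n + 1) := by
      rw [show (n + 1 + 1) * (n + 1) = (n + 1) * n + (n + 1) * 2 by ring,
        Nat.add_mul_div_right _ _ two_pos]
    rw [Finset.prod_range_succ, bnd, e, pow_add, ih, ← pts_mul q (n + 1 + 1) hq]
    ring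

theorem bound_aux (R : Stein x) (hthird : ∀ i j : ι, ∃ k, k ≠ i ∧ k ≠ j) (s : ℕ) :
    ∀ S : Finset ι, S.card = s + 1 → Finite (sub x S) ∧
      Nat.card (sub x S) ≤ bnd (Fintype.card F) (s + 1) ∧
      ∀ m ∈ S, ∃ R₁ : Finset G, R₁.card ≤ pts (Fintype.card F) (s + 1) ∧
        ∀ g ∈ sub x S, ∃ r ∈ R₁, r⁻¹ * g ∈ par x (S.erase m) m := by
  classical
  induction s with
  | zero =>
    intro S hS
    obtain ⟨a, rfl⟩ := Finset.card_eq_one.1 hS
    have e : sub x {a} = ⊥ := by
      rw [eq_bot_iff, sub, Subgroup.closure_le]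
      rintro _ ⟨i, hi, j, hj, hij, b, rfl⟩
      exact absurd ((Finset.mem_singleton.1 hi).trans (Finset.mem_singleton.1 hj).symm) hij
    rw [e]
    refine ⟨inferInstance, by simp [bnd], fun m hm => ⟨{1}, by simp [pts], fun g hg => ?_⟩⟩
    rw [Subgroup.mem_bot.1 hg]
    exact ⟨1, by simp⟩
  | succ s ih =>
    intro S hS
    have key : ∀ m ∈ S, (∃ R₁ : Finset G, R₁.card ≤ pts (Fintype.card F) (s + 1 + 1) ∧
        ∀ g ∈ sub x S, ∃ r ∈ R₁, r⁻¹ * g ∈ par x (S.erase m) m) ∧
        Finite (par x (S.erase m) m) ∧ Nat.card (par x (S.erase m) m) ≤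
          Fintype.card F ^ (s + 1) * (bnd (Fintype.card F) (s + 1) * (Fintype.card F - 1)) := by
      intro m hm
      have hS' : (S.erase m).card = s + 1 := by rw [Finset.card_erase_of_mem hm, hS]; omega
      obtain ⟨o, ho⟩ := Finset.card_pos.1 (by omega : 0 < (S.erase m).card)
      obtain ⟨hf, hc, hreps⟩ := ih (S.erase m) hS'
      obtain ⟨R₁, hR₁, hR₁'⟩ := hreps o ho
      obtain ⟨R₂, hR₂, hR₂'⟩ := exists_reps R hthird (Finset.notMem_erase m S) ho R₁ hR₁'
      rw [Finset.insert_erase hm] at hR₂'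
      refine ⟨⟨R₂, ?_, hR₂'⟩, ?_⟩
      · rw [hS'] at hR₂
        rw [pts, Finset.sum_range_succ, ← pts]
        omega
      · obtain ⟨hf', hc'⟩ := card_par_le R hthird (Finset.notMem_erase m S) ho
        refine ⟨hf', hc'.trans ?_⟩
        rw [hS']
        exact Nat.mul_le_mul_left _ (Nat.mul_le_mul_right _ hc)
    obtain ⟨m, hm⟩ := Finset.card_pos.1 (by omega : 0 < S.card)
    obtain ⟨⟨R₁, hR₁, hR₁'⟩, hfQ, hcQ⟩ := key m hm
    set Q := par x (S.erase m) m
    have hsub : (sub x S : Set G) ⊆ (R₁ : Set G) * (Q : Set G) := by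
      intro g hg
      obtain ⟨r, hr, h⟩ := hR₁' g hg
      exact ⟨r, hr, _, h, by group⟩
    have hfin : ((R₁ : Set G) * (Q : Set G)).Finite := R₁.finite_toSet.mul (Set.toFinite _)
    refine ⟨(hfin.subset hsub).to_subtype, ?_, fun m hm => (key m hm).1⟩
    refine (Nat.card_mono hfin hsub).trans (Set.natCard_mul_le.trans ?_)
    rw [Nat.card_coe_set_eq, Set.ncard_coe_finset]
    exact Nat.mul_le_mul hR₁ hcQ

/-- A group generated by elements with the Steinberg relations has at most `|SL_n(q)|` elements. -/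
theorem card_le [Fintype ι] (R : Stein x) (hn : 3 ≤ Fintype.card ι)
    (hgen : Subgroup.closure {g | ∃ i j, i ≠ j ∧ ∃ a, g = x i j a} = ⊤) :
    Finite G ∧ (Fintype.card F - 1) * Nat.card G ≤
      Fintype.card F ^ (Fintype.card ι * (Fintype.card ι - 1) / 2) *
        ∏ i ∈ Finset.range (Fintype.card ι), (Fintype.card F ^ (i + 1) - 1) := by
  classical
  have hthird : ∀ i j : ι, ∃ k, k ≠ i ∧ k ≠ j := by
    intro i j
    obtain ⟨k, -, hk⟩ := Finset.exists_mem_notMem_of_card_lt_card
      (s := ({i, j} : Finset ι)) (t := Finset.univ)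
      (by rw [Finset.card_univ]; have := Finset.card_le_two (a := i) (b := j); omega)
    simp only [Finset.mem_insert, Finset.mem_singleton, not_or] at hk
    exact ⟨k, hk⟩
  obtain ⟨hf, hc, -⟩ := bound_aux R hthird (Fintype.card ι - 1) Finset.univ
    (by rw [Finset.card_univ]; omega)
  have e : sub x Finset.univ = ⊤ := by
    rw [eq_top_iff, ← hgen, Subgroup.closure_le]
    rintro _ ⟨i, j, hij, a, rfl⟩
    exact mem_sub (Finset.mem_univ i) (Finset.mem_univ j) hij a
  rw [e] at hf hc
  haveI := hf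
  have hG : Finite G := Finite.of_equiv _ Subgroup.topEquiv.toEquiv
  refine ⟨hG, ?_⟩
  rw [Subgroup.card_top, show Fintype.card ι - 1 + 1 = Fintype.card ι by omega] at hc
  have h := bnd_mul (Fintype.card F) (Fintype.card ι - 1) Fintype.card_pos
  rw [show Fintype.card ι - 1 + 1 = Fintype.card ι by omega] at h
  rw [← h, mul_comm]
  exact Nat.mul_le_mul_right _ hc

end CfsgLib.MultPSL
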