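import Mathlib
import Cfsg.Agent.SL2Steinberg.Basic

/-!
# Consequences of the Steinberg relations of type `A`

`W i j t = x_ij(t) x_ji(-t⁻¹) x_ij(t)` and `T i j t = W i j t * W i j (-1)` act on the root
elements by signed permutations and scalars.
-/

set_option autoImplicit false

namespace CfsgLib.MultPSL

open scoped commutatorElement

variable {G ι F : Type*} [Group G] [Field F]

/-- The Steinberg relations for a family of root elements. -/
structure Stein (x : ι → ι → F → G) : Prop where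
  add : ∀ i j, i ≠ j → ∀ s t, x i j (s + t) = x i j s * x i j t
  comm : ∀ i j k l, i ≠ j → k ≠ l → i ≠ l → j ≠ k → ∀ a b, Commute (x i j a) (x k l b)
  rel : ∀ i j k, i ≠ j → j ≠ k → i ≠ k → ∀ a b, ⁅x i j a, x j k b⁆ = x i k (a * b)

/-- `w_ij(t)`. -/
def W (x : ι → ι → F → G) (i j : ι) (t : F) : G := x i j t * x j i (-t⁻¹) * x i j t

/-- `h_ij(t)`. -/
def T (x : ι → ι → F → G) (i j : ι) (t : F) : G := W x i j t * W x i j (-1)

theorem map_W {H : Type*} [Group H] (φ : G →* H) (x : ι → ι → F → G) (i j : ι) (t : F) :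
    φ (W x i j t) = W (fun i j a => φ (x i j a)) i j t := by
  simp [W]

theorem map_T {H : Type*} [Group H] (φ : G →* H) (x : ι → ι → F → G) (i j : ι) (t : F) :
    φ (T x i j t) = T (fun i j a => φ (x i j a)) i j t := by
  simp [T, map_W]

/-- The images satisfy the relations. -/
theorem Stein.map {x : ι → ι → F → G} (R : Stein x) {H : Type*} [Group H] (φ : G →* H) :
    Stein (fun i j a => φ (x i j a)) where
  add i j h s t := by rw [R.add i j h, map_mul]
  comm i j k l h1 h2 h3 h4 a b := (R.comm i j k l h1 h2 h3 h4 a b).map φ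
  rel i j k h1 h2 h3 a b := by rw [← map_commutatorElement, R.rel i j k h1 h2 h3]

variable {x : ι → ι → F → G} (R : Stein x)
include R

theorem x_zero {i j : ι} (h : i ≠ j) : x i j 0 = 1 := by simpa using R.add i j h 0 0

theorem x_neg {i j : ι} (h : i ≠ j) (a : F) : x i j (-a) = (x i j a)⁻¹ :=
  eq_inv_of_mul_eq_one_left (by rw [← R.add i j h, neg_add_cancel, x_zero R h])

theorem conj_comm {i j k l : ι} (h1 : i ≠ j) (h2 : k ≠ l) (h3 : i ≠ l) (h4 : j ≠ k) (a b : F) :
    MulAut.conj (x i j a) (x k l b) = x k l b := by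
  rw [MulAut.conj_apply, (R.comm i j k l h1 h2 h3 h4 a b).eq, mul_inv_cancel_right]

theorem conj_left {i j k : ι} (h1 : i ≠ j) (h2 : j ≠ k) (h3 : i ≠ k) (a b : F) :
    MulAut.conj (x i j a) (x j k b) = x i k (a * b) * x j k b := by
  rw [← R.rel i j k h1 h2 h3, MulAut.conj_apply, commutatorElement_def, inv_mul_cancel_right]

theorem conj_right {i j k : ι} (h1 : i ≠ j) (h2 : j ≠ k) (h3 : i ≠ k) (a b : F) :
    MulAut.conj (x j k b) (x i j a) = x i k (-(a * b)) * x i j a := by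
  rw [x_neg R h3, ← R.rel i j k h1 h2 h3, MulAut.conj_apply, commutatorElement_def]
  group

theorem conj_root {i k l : ι} {j : ι} (h : i ≠ j) (hk : k ≠ i) (hk' : k ≠ j) (hl : l ≠ i)
    (hl' : l ≠ j) (hkl : k ≠ l) (t a : F) : MulAut.conj (W x i j t) (x k l a) = x k l a := by
  simp only [W, map_mul, MulAut.mul_apply]
  rw [conj_comm R h hkl hl.symm hk'.symm, conj_comm R h.symm hkl hl'.symm hk.symm,
    conj_comm R h hkl hl.symm hk'.symm]

theorem cancel_aux {i j : ι} (h : i ≠ j) {g : G} {a : F} (hc : Commute (x i j a) g) :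
    x i j (-a) * g * x i j a = g := by
  rw [x_neg R h, mul_assoc, ← hc.eq, inv_mul_cancel_left]

theorem W_jk {i j k : ι} (h : i ≠ j) (hi : k ≠ i) (hj : k ≠ j) {t : F} (ht : t ≠ 0) (a : F) :
    MulAut.conj (W x i j t) (x j k a) = x i k (t * a) := by
  simp only [W, map_mul, MulAut.mul_apply]
  rw [conj_left R h hj.symm hi.symm, map_mul, conj_left R h.symm hi.symm hj.symm,
    conj_comm R h.symm hj.symm hj.symm h,
    show -t⁻¹ * (t * a) = -a by field_simp,
    cancel_aux R hj.symm (R.comm _ _ _ _ hj.symm hi.symm hj.symm hi a _),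
    conj_comm R h hi.symm hi.symm h.symm]

theorem W_ik {i j k : ι} (h : i ≠ j) (hi : k ≠ i) (hj : k ≠ j) {t : F} (ht : t ≠ 0) (a : F) :
    MulAut.conj (W x i j t) (x i k a) = x j k (-t⁻¹ * a) := by
  simp only [W, map_mul, MulAut.mul_apply]
  rw [conj_comm R h hi.symm hi.symm h.symm, conj_left R h.symm hi.symm hj.symm, map_mul,
    conj_left R h hj.symm hi.symm, conj_comm R h hi.symm hi.symm h.symm,
    show t * (-t⁻¹ * a) = -a by field_simp,
    cancel_aux R hi.symm (R.comm _ _ _ _ hi.symm hj.symm hi.symm hj a _)]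

theorem W_kj {i j k : ι} (h : i ≠ j) (hi : k ≠ i) (hj : k ≠ j) {t : F} (ht : t ≠ 0) (a : F) :
    MulAut.conj (W x i j t) (x k j a) = x k i (t⁻¹ * a) := by
  simp only [W, map_mul, MulAut.mul_apply]
  rw [conj_comm R h hj h hj.symm, conj_right R hj h.symm hi, map_mul,
    conj_comm R h hj h hj.symm, conj_right R hi h hj, show -(a * -t⁻¹) = t⁻¹ * a by ring,
    show -(t⁻¹ * a * t) = -a by field_simp,
    cancel_aux R hj (R.comm _ _ _ _ hj hi hi hj.symm a _)]

theorem W_ki {i j k : ι} (h : i ≠ j) (hi : k ≠ i) (hj : k ≠ j) {t : F} (ht : t ≠ 0) (a : F) :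
    MulAut.conj (W x i j t) (x k i a) = x k j (-t * a) := by
  simp only [W, map_mul, MulAut.mul_apply]
  rw [conj_right R hi h hj, map_mul, conj_right R hj h.symm hi,
    conj_comm R h.symm hi h.symm hi.symm,
    show -(-(a * t) * -t⁻¹) = -a by field_simp,
    cancel_aux R hi (R.comm _ _ _ _ hi hj hj hi.symm a _),
    conj_comm R h hj h hj.symm]
  congr 1
  ring

variable (hthird : ∀ i j : ι, ∃ k, k ≠ i ∧ k ≠ j)
include hthird

theorem W_ij {i j : ι} (h : i ≠ j) {t : F} (ht : t ≠ 0) (v : F) :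
    MulAut.conj (W x i j t) (x i j v) = x j i (-(t⁻¹ ^ 2 * v)) := by
  obtain ⟨k, hi, hj⟩ := hthird i j
  have e := R.rel i k j hi.symm hj h v 1
  rw [mul_one] at e
  rw [← e, map_commutatorElement, W_ik R h hi hj ht, W_kj R h hi hj ht,
    R.rel j k i hj.symm hi h.symm]
  congr 1
  ring

theorem W_ji {i j : ι} (h : i ≠ j) {t : F} (ht : t ≠ 0) (v : F) :
    MulAut.conj (W x i j t) (x j i v) = x i j (-(t ^ 2 * v)) := by
  obtain ⟨k, hi, hj⟩ := hthird i j
  have e := R.rel j k i hj.symm hi h.symm v 1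
  rw [mul_one] at e
  rw [← e, map_commutatorElement, W_jk R h hi hj ht, W_ki R h hi hj ht,
    R.rel i k j hi.symm hj h]
  congr 1
  ring

theorem T_ij {i j : ι} (h : i ≠ j) {t : F} (ht : t ≠ 0) (a : F) :
    MulAut.conj (T x i j t) (x i j a) = x i j (t ^ 2 * a) := by
  rw [T, map_mul, MulAut.mul_apply, W_ij R hthird h (neg_ne_zero.2 one_ne_zero),
    W_ji R hthird h ht]
  congr 1
  ring

theorem T_ji {i j : ι} (h : i ≠ j) {t : F} (ht : t ≠ 0) (a : F) :
    MulAut.conj (T x i j t) (x j i a) = x j i (t⁻¹ ^ 2 * a) := by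
  rw [T, map_mul, MulAut.mul_apply, W_ji R hthird h (neg_ne_zero.2 one_ne_zero),
    W_ij R hthird h ht]
  congr 1
  ring

omit hthird

theorem T_ik {i j k : ι} (h : i ≠ j) (hi : k ≠ i) (hj : k ≠ j) {t : F} (ht : t ≠ 0) (a : F) :
    MulAut.conj (T x i j t) (x i k a) = x i k (t * a) := by
  rw [T, map_mul, MulAut.mul_apply, W_ik R h hi hj (neg_ne_zero.2 one_ne_zero),
    W_jk R h hi hj ht]
  simp

theorem T_jk {i j k : ι} (h : i ≠ j) (hi : k ≠ i) (hj : k ≠ j) {t : F} (ht : t ≠ 0) (a : F) :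
    MulAut.conj (T x i j t) (x j k a) = x j k (t⁻¹ * a) := by
  rw [T, map_mul, MulAut.mul_apply, W_jk R h hi hj (neg_ne_zero.2 one_ne_zero),
    W_ik R h hi hj ht]
  simp

theorem T_ki {i j k : ι} (h : i ≠ j) (hi : k ≠ i) (hj : k ≠ j) {t : F} (ht : t ≠ 0) (a : F) :
    MulAut.conj (T x i j t) (x k i a) = x k i (t⁻¹ * a) := by
  rw [T, map_mul, MulAut.mul_apply, W_ki R h hi hj (neg_ne_zero.2 one_ne_zero),
    W_kj R h hi hj ht]
  simp

theorem T_kj {i j k : ι} (h : i ≠ j) (hi : k ≠ i) (hj : k ≠ j) {t : F} (ht : t ≠ 0) (a : F) :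
    MulAut.conj (T x i j t) (x k j a) = x k j (t * a) := by
  rw [T, map_mul, MulAut.mul_apply, W_kj R h hi hj (neg_ne_zero.2 one_ne_zero),
    W_ki R h hi hj ht]
  simp

theorem T_root {i j k l : ι} (h : i ≠ j) (hk : k ≠ i) (hk' : k ≠ j) (hl : l ≠ i) (hl' : l ≠ j)
    (hkl : k ≠ l) (t a : F) : MulAut.conj (T x i j t) (x k l a) = x k l a := by
  rw [T, map_mul, MulAut.mul_apply, conj_root R h hk hk' hl hl' hkl,
    conj_root R h hk hk' hl hl' hkl]

end CfsgLib.MultPSL
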